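import Mathlib
import Cfsg.Prelude.Def_PLocal
import Cfsg.Agent.Lib.Thompson.Replacement
import Cfsg.Agent.Lib.Thompson.Cores
import Cfsg.Agent.Lib.Coprime.Generation
import Cfsg.Agent.Lib.Coprime.Action

/-!
The offender bound `|A| |C_V(A)| ≤ |V|` for faithful groups with self-centralizing `p'`-core, and
the decomposition of best offenders into offenders of order `p`.
-/

set_option autoImplicit false
set_option linter.unusedVariables false
set_option linter.style.haveILetI false
set_option linter.unusedSectionVars false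

namespace Cfsg.Agent.Thompson.Off

open Cfsg
open scoped commutatorElement

variable {G : Type*} [Group G] {p : ℕ}

/-- `B` is a hyperplane of the elementary abelian group `A`. -/
def IsHyp (p : ℕ) (B A : Subgroup G) : Prop := B ≤ A ∧ Nat.card A = p * Nat.card B

variable [Finite G] [hp : Fact p.Prime]

theorem card_zpowers_of_pow_eq_one {x : G} (hx : x ^ p = 1) (h1 : x ≠ 1) :
    Nat.card (Subgroup.zpowers x) = p := by
  rw [Nat.card_zpowers]; exact orderOf_eq_prime hx h1

theorem eq_bot_or_eq_of_card_prime {A B : Subgroup G} (hA : Nat.card A = p) (hB : B ≤ A) :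
    B = ⊥ ∨ B = A := by
  rcases (Nat.dvd_prime hp.out).mp (hA ▸ Subgroup.card_dvd_of_le hB) with h | h
  · exact Or.inl (Subgroup.card_eq_one.mp h)
  · exact Or.inr (Subgroup.eq_of_le_of_card_ge hB (by rw [h, hA]))

theorem zpowers_inf_eq_bot {x : G} (hx : x ^ p = 1) {E : Subgroup G} (h : x ∉ E) :
    Subgroup.zpowers x ⊓ E = ⊥ := by
  have h1 : x ≠ 1 := fun e => h (e ▸ one_mem _)
  rcases eq_bot_or_eq_of_card_prime (card_zpowers_of_pow_eq_one hx h1)
    (inf_le_left : Subgroup.zpowers x ⊓ E ≤ _) with h2 | h2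
  · exact h2
  · exact absurd ((inf_eq_left.mp h2) (Subgroup.mem_zpowers x)) h

theorem card_sup_zpowers {A E : Subgroup G} (hA : IsElementaryAbelian p A) (hE : E ≤ A) {x : G}
    (hx : x ∈ A) (hxE : x ∉ E) : Nat.card ↥(E ⊔ Subgroup.zpowers x) = p * Nat.card E := by
  have hz : Subgroup.zpowers x ≤ A := Subgroup.zpowers_le.mpr hx
  have h := card_sup_mul_card_inf (H := E) (K := Subgroup.zpowers x)
    ((hz.trans (le_centralizer_self hA.1)).trans
      ((Subgroup.centralizer_le hE).trans (Subgroup.centralizer_le_normalizer _)))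
  rw [inf_comm, zpowers_inf_eq_bot (hA.2 x hx) hxE, Subgroup.card_bot, mul_one,
    card_zpowers_of_pow_eq_one (hA.2 x hx) (fun e => hxE (e ▸ one_mem _))] at h
  rw [h, mul_comm]

/-- The fixed points of the hyperplanes generate. -/
theorem le_iSup_hyperplanes {A Q : Subgroup G} (hA : IsElementaryAbelian p A)
    (hAQ : A ≤ Subgroup.normalizer (Q : Set G)) (hQ : (Nat.card Q).Coprime p) :
    ∀ (n : ℕ) (E : Subgroup G), Nat.card A ≤ Nat.card E + n → E ≤ A → E ≠ A →
      Q ⊓ Subgroup.centralizer (E : Set G) ≤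
        ⨆ B : {B : Subgroup G // IsHyp p B A}, Q ⊓ Subgroup.centralizer ((B : Subgroup G) : Set G) := by
  intro n
  induction n using Nat.strong_induction_on with
  | _ n ih =>
  intro E hn hE hne
  by_cases hh : Nat.card A = p * Nat.card E
  · exact le_iSup (fun B : {B : Subgroup G // IsHyp p B A} =>
      Q ⊓ Subgroup.centralizer ((B : Subgroup G) : Set G)) ⟨E, hE, hh⟩
  obtain ⟨d₁, hd₁, hd₁E⟩ := SetLike.exists_of_lt (lt_of_le_of_ne hE hne)
  set E₁ := E ⊔ Subgroup.zpowers d₁ with hE₁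
  have hE₁A : E₁ ≤ A := sup_le hE (Subgroup.zpowers_le.mpr hd₁)
  have hE₁ne : E₁ ≠ A := fun h => hh (by
    rw [← card_sup_zpowers hA hE hd₁ hd₁E, ← hE₁, h])
  obtain ⟨d₂, hd₂, hd₂E⟩ := SetLike.exists_of_lt (lt_of_le_of_ne hE₁A hE₁ne)
  set D := Subgroup.zpowers d₁ ⊔ Subgroup.zpowers d₂ with hD
  have hDA : D ≤ A := sup_le (Subgroup.zpowers_le.mpr hd₁) (Subgroup.zpowers_le.mpr hd₂)
  haveI : IsMulCommutative D := isMulCommutative_of_le hA.1 hDA
  have hd₂1 : d₂ ∉ Subgroup.zpowers d₁ := fun h => hd₂E (Subgroup.mem_sup_right h)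
  have hDnc : ¬ IsCyclic D := by
    intro hc
    obtain ⟨⟨g, hgD⟩, hg⟩ := hc.exists_generator
    have hDz : D ≤ Subgroup.zpowers g := fun x hx => by
      obtain ⟨i, hi⟩ := hg ⟨x, hx⟩
      exact ⟨i, congrArg Subtype.val hi⟩
    have hg1 : g ≠ 1 := fun e => hd₁E (by
      have := hDz (Subgroup.mem_sup_left (Subgroup.mem_zpowers d₁))
      rw [e, Subgroup.zpowers_one_eq_bot, Subgroup.mem_bot] at this
      exact this ▸ one_mem _)
    rcases eq_bot_or_eq_of_card_prime (card_zpowers_of_pow_eq_one (hA.2 g (hDA hgD)) hg1)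
      (le_trans le_sup_left hDz : Subgroup.zpowers d₁ ≤ _) with h | h
    · exact hd₁E (by rw [Subgroup.zpowers_eq_bot.mp h]; exact one_mem _)
    · exact hd₂1 (h ▸ hDz (Subgroup.mem_sup_right (Subgroup.mem_zpowers d₂)))
  have hDE : D ⊓ E = ⊥ := by
    rw [eq_bot_iff]
    rintro x ⟨hxD, hxE⟩
    have hcomm : Subgroup.zpowers d₂ ≤ Subgroup.normalizer (Subgroup.zpowers d₁ : Set G) :=
      ((Subgroup.zpowers_le.mpr hd₂).trans (le_centralizer_self hA.1)).trans
        ((Subgroup.centralizer_le (Subgroup.zpowers_le.mpr hd₁)).trans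
          (Subgroup.centralizer_le_normalizer _))
    have hx' : x ∈ ((Subgroup.zpowers d₁ ⊔ Subgroup.zpowers d₂ : Subgroup G) : Set G) := hxD
    rw [Subgroup.coe_mul_of_right_le_normalizer_left _ _ hcomm] at hx'
    obtain ⟨u, hu, w, hw, rfl⟩ := hx'
    have hwE : w ∈ Subgroup.zpowers d₂ ⊓ E₁ := by
      refine ⟨hw, ?_⟩
      show w ∈ E₁
      have : w = u⁻¹ * (u * w) := by group
      rw [this]
      exact mul_mem (inv_mem (Subgroup.mem_sup_right hu)) (Subgroup.mem_sup_left hxE)
    rw [zpowers_inf_eq_bot (hA.2 _ hd₂) hd₂E, Subgroup.mem_bot] at hwE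
    subst hwE
    have huE : u ∈ Subgroup.zpowers d₁ ⊓ E := ⟨hu, by simpa using hxE⟩
    rw [zpowers_inf_eq_bot (hA.2 _ hd₁) hd₁E, Subgroup.mem_bot] at huE
    simp [huE]
  refine Coprime.le_of_centralizer_le D _ _ hDnc ?_ ?_ fun e he he1 => ?_
  · exact Coprime.le_normalizer_inf (hDA.trans hAQ) (Coprime.le_normalizer_centralizer
      ((hDA.trans (le_centralizer_self hA.1)).trans
        ((Subgroup.centralizer_le hE).trans (Subgroup.centralizer_le_normalizer _))))
  · obtain ⟨k, hk⟩ := IsPGroup.iff_card.mp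
      (isPGroup_of_isElementaryAbelian (isElementaryAbelian_of_le hA hDA))
    rw [hk]
    exact Nat.Coprime.pow_left k
      ((Nat.Coprime.coprime_dvd_left (Subgroup.card_dvd_of_le inf_le_left) hQ).symm)
  · have heE : e ∉ E := fun h => he1 (Subgroup.mem_bot.mp (hDE ▸ (⟨he, h⟩ : e ∈ D ⊓ E)))
    have hle : (Q ⊓ Subgroup.centralizer (E : Set G)) ⊓ Subgroup.centralizer {e} ≤
        Q ⊓ Subgroup.centralizer ((E ⊔ Subgroup.zpowers e : Subgroup G) : Set G) := by
      refine le_inf (inf_le_left.trans inf_le_left) ?_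
      rw [Subgroup.le_centralizer_iff, sup_le_iff]
      refine ⟨Subgroup.le_centralizer_iff.mp (inf_le_left.trans inf_le_right), ?_⟩
      rw [Subgroup.le_centralizer_iff, Subgroup.zpowers_eq_closure, Subgroup.centralizer_closure]
      exact inf_le_right
    have hne' : E ⊔ Subgroup.zpowers e ≠ A := fun h => hh (by
      rw [← card_sup_zpowers hA hE (hDA he) heE, h])
    have hlt : Nat.card E < Nat.card ↥(E ⊔ Subgroup.zpowers e) := by
      rw [card_sup_zpowers hA hE (hDA he) heE]
      exact lt_mul_left Nat.card_pos hp.out.one_lt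
    have hcard : Nat.card ↥(E ⊔ Subgroup.zpowers e) ≤ Nat.card A :=
      Subgroup.card_le_of_le (sup_le hE (Subgroup.zpowers_le.mpr (hDA he)))
    exact hle.trans (ih (Nat.card A - Nat.card ↥(E ⊔ Subgroup.zpowers e)) (by omega) _ (by omega)
      (sup_le hE (Subgroup.zpowers_le.mpr (hDA he))) hne')

theorem inf_le_centralizer_of_all {A Q : Subgroup G} (hA : IsElementaryAbelian p A) (hA1 : A ≠ ⊥)
    (hAQ : A ≤ Subgroup.normalizer (Q : Set G)) (hQ : (Nat.card Q).Coprime p) {a : G} (ha : a ∈ A)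
    (h : ∀ B, IsHyp p B A → a ∈ B ∨
      Q ⊓ Subgroup.centralizer (B : Set G) ≤ Subgroup.centralizer (A : Set G)) :
    a ∈ Subgroup.centralizer (Q : Set G) := by
  have h1 : Q ⊓ Subgroup.centralizer ((⊥ : Subgroup G) : Set G) = Q := by
    rw [inf_eq_left]
    exact fun x _ => Subgroup.mem_centralizer_iff.mpr fun y hy => by
      rw [Subgroup.mem_bot.mp hy, one_mul, mul_one]
  have h2 := le_iSup_hyperplanes hA hAQ hQ (Nat.card A) ⊥ (Nat.le_add_left _ _) bot_le (Ne.symm hA1)
  rw [h1] at h2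
  have h3 : Q ≤ Subgroup.centralizer {a} := by
    refine h2.trans (iSup_le fun B => ?_)
    rcases h B.1 B.2 with hB | hB
    · exact inf_le_right.trans (Subgroup.centralizer_le (Set.singleton_subset_iff.mpr hB))
    · exact hB.trans (Subgroup.centralizer_le (Set.singleton_subset_iff.mpr ha))
  exact Subgroup.mem_centralizer_iff.mpr fun q hq =>
    Subgroup.mem_centralizer_singleton_iff.mp (h3 hq)

theorem exists_moving_hyperplane {A Q : Subgroup G} (hA : IsElementaryAbelian p A) (hA1 : A ≠ ⊥)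
    (hAQ : A ≤ Subgroup.normalizer (Q : Set G)) (hQ : (Nat.card Q).Coprime p)
    (hAC : A ⊓ Subgroup.centralizer (Q : Set G) = ⊥) {a : G} (ha : a ∈ A) (ha1 : a ≠ 1) :
    ∃ B, IsHyp p B A ∧ a ∉ B ∧
      ¬ Q ⊓ Subgroup.centralizer (B : Set G) ≤ Subgroup.centralizer (A : Set G) := by
  by_contra hcon
  push Not at hcon
  refine ha1 (Subgroup.mem_bot.mp (hAC ▸ (⟨ha, inf_le_centralizer_of_all hA hA1 hAQ hQ ha
    fun B hB => ?_⟩ : a ∈ A ⊓ Subgroup.centralizer (Q : Set G))))
  by_cases h : a ∈ B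
  · exact Or.inl h
  · exact Or.inr (hcon B hB h)

/-- A moving hyperplane has strictly more fixed points. -/
theorem fixed_lt_of_moving {V A B Q : Subgroup G} (hV : IsElementaryAbelian p V)
    (hA : IsElementaryAbelian p A) (hAV : A ≤ Subgroup.normalizer (V : Set G))
    (hAQ : A ≤ Subgroup.normalizer (Q : Set G)) (hQV : Q ≤ Subgroup.normalizer (V : Set G))
    (hQc : Q ⊓ Subgroup.centralizer (V : Set G) = ⊥) (hQ : (Nat.card Q).Coprime p)
    (hB : B ≤ A) (hmove : ¬ Q ⊓ Subgroup.centralizer (B : Set G) ≤ Subgroup.centralizer (A : Set G)) :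
    p * Nat.card ↥(V ⊓ Subgroup.centralizer (A : Set G)) ≤
      Nat.card ↥(V ⊓ Subgroup.centralizer (B : Set G)) := by
  set U := V ⊓ Subgroup.centralizer (B : Set G) with hU
  set R := Q ⊓ Subgroup.centralizer (B : Set G) with hR
  have hle : V ⊓ Subgroup.centralizer (A : Set G) ≤ U :=
    inf_le_inf_left _ (Subgroup.centralizer_le hB)
  have hne : V ⊓ Subgroup.centralizer (A : Set G) ≠ U := by
    intro he
    refine hmove fun q hq => ?_
    rw [Subgroup.mem_centralizer_iff]
    intro a ha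
    have hRA : A ≤ Subgroup.normalizer (R : Set G) :=
      Coprime.le_normalizer_inf hAQ (Coprime.le_normalizer_centralizer
        ((le_centralizer_self hA.1).trans ((Subgroup.centralizer_le hB).trans
          (Subgroup.centralizer_le_normalizer _))))
    have hRU : R ≤ Subgroup.normalizer (U : Set G) :=
      Coprime.le_normalizer_inf (inf_le_left.trans hQV) (Coprime.le_normalizer_centralizer
        (inf_le_right.trans (Subgroup.centralizer_le_normalizer _)))
    have hUA : U ≤ Subgroup.centralizer (A : Set G) := he ▸ inf_le_right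
    have hcen : ⁅⁅R, A⁆, U⁆ = ⊥ := by
      apply Subgroup.commutator_commutator_eq_bot_of_rotate
      · rw [Subgroup.commutator_comm A U,
          Subgroup.commutator_eq_bot_iff_le_centralizer.mpr hUA, Subgroup.commutator_bot_left]
      · rw [Subgroup.commutator_eq_bot_iff_le_centralizer]
        exact (commutator_le_of_le_normalizer hRU).trans hUA
    have hq1 : ⁅q, a⁆ ∈ R :=
      commutator_le_of_le_normalizer hRA (Subgroup.commutator_mem_commutator hq ha)
    have hzU : ⁅q, a⁆ ∈ Subgroup.centralizer (U : Set G) :=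
      Subgroup.commutator_eq_bot_iff_le_centralizer.mp hcen
        (Subgroup.commutator_mem_commutator hq ha)
    set K := Subgroup.zpowers ⁅q, a⁆ with hK
    have hKR : K ≤ R := Subgroup.zpowers_le.mpr hq1
    have hKV := Coprime.thompson_pxq p B K V
      (isPGroup_of_isElementaryAbelian (isElementaryAbelian_of_le hA hB))
      (Nat.Coprime.coprime_dvd_left (Subgroup.card_dvd_of_le (hKR.trans inf_le_left)) hQ)
      (isPGroup_of_isElementaryAbelian hV)
      (Subgroup.le_centralizer_iff.mp (hKR.trans inf_le_right)) (hB.trans hAV)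
      (hKR.trans (inf_le_left.trans hQV))
      (Subgroup.le_centralizer_iff.mp (Subgroup.zpowers_le.mpr hzU))
    have : ⁅q, a⁆ ∈ Q ⊓ Subgroup.centralizer (V : Set G) :=
      ⟨hq1.1, hKV (Subgroup.mem_zpowers _)⟩
    rw [hQc, Subgroup.mem_bot, commutatorElement_eq_one_iff_mul_comm] at this
    exact this.symm
  have hUe : IsElementaryAbelian p U := isElementaryAbelian_of_le hV inf_le_left
  obtain ⟨x, hx, hxn⟩ := SetLike.exists_of_lt (lt_of_le_of_ne hle hne)
  rw [← card_sup_zpowers hUe hle hx hxn]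
  exact Subgroup.card_le_of_le (sup_le hle (Subgroup.zpowers_le.mpr hx))

/-- **The offender bound**. -/
theorem card_mul_fixed_le (V Q : Subgroup G) (hV : IsElementaryAbelian p V)
    (hQV : Q ≤ Subgroup.normalizer (V : Set G))
    (hQc : Q ⊓ Subgroup.centralizer (V : Set G) = ⊥) (hQ : (Nat.card Q).Coprime p) :
    ∀ (n : ℕ) (A : Subgroup G), Nat.card A ≤ n → IsElementaryAbelian p A →
      A ≤ Subgroup.normalizer (V : Set G) → A ≤ Subgroup.normalizer (Q : Set G) →
      A ⊓ Subgroup.centralizer (Q : Set G) = ⊥ →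
      Nat.card A * Nat.card ↥(V ⊓ Subgroup.centralizer (A : Set G)) ≤ Nat.card V := by
  intro n
  induction n using Nat.strong_induction_on with
  | _ n ih =>
  intro A hn hA hAV hAQ hAC
  by_cases hA1 : A = ⊥
  · subst hA1
    rw [Subgroup.card_bot, one_mul]
    exact Subgroup.card_le_of_le inf_le_left
  obtain ⟨a, ha, ha1⟩ := A.bot_or_exists_ne_one.resolve_left hA1
  obtain ⟨B, hB, -, hmove⟩ := exists_moving_hyperplane hA hA1 hAQ hQ hAC ha ha1
  have h1 := fixed_lt_of_moving hV hA hAV hAQ hQV hQc hQ hB.1 hmove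
  have hlt : Nat.card B < Nat.card A := by
    rw [hB.2]; exact lt_mul_left Nat.card_pos hp.out.one_lt
  have h2 := ih _ (lt_of_lt_of_le hlt hn) B le_rfl (isElementaryAbelian_of_le hA hB.1)
    (hB.1.trans hAV) (hB.1.trans hAQ) (le_bot_iff.mp (hAC ▸ inf_le_inf_right _ hB.1))
  calc Nat.card A * Nat.card ↥(V ⊓ Subgroup.centralizer (A : Set G))
      = Nat.card B * (p * Nat.card ↥(V ⊓ Subgroup.centralizer (A : Set G))) := by rw [hB.2]; ring
    _ ≤ Nat.card B * Nat.card ↥(V ⊓ Subgroup.centralizer (B : Set G)) := Nat.mul_le_mul_left _ h1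
    _ ≤ Nat.card V := h2

end Cfsg.Agent.Thompson.Off
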