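import Mathlib
import Cfsg.Prelude.Def_PLocal
import Cfsg.Agent.Lib.Thompson.Offender.Bound
import Cfsg.Agent.Lib.Thompson.Quadratic
import Cfsg.Agent.Lib.Thompson.IrrPair

/-!
Offenders of order `p` (transvection groups) in a faithful group with self-centralizing
`p'`-core: opposite pairs, their planes, and the decomposition of best offenders.
-/

set_option autoImplicit false
set_option linter.unusedVariables false
set_option linter.style.haveILetI false
set_option linter.unusedSectionVars false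

namespace Cfsg.Agent.Thompson.Off

open Cfsg
open scoped commutatorElement

variable {G : Type*} [Group G] {p : ℕ}

/-- The standing hypotheses. -/
structure OffCtx (p : ℕ) (V H : Subgroup G) : Prop where
  hV : IsElementaryAbelian p V
  hHV : H ≤ Subgroup.normalizer (V : Set G)
  hf : H ⊓ Subgroup.centralizer (V : Set G) = ⊥
  hS1 : Subgroup.centralizer (pPrimeCore p ↥H : Set ↥H) ≤ pPrimeCore p ↥H

/-- `O_{p'}(H)` inside the ambient group. -/
abbrev qOf (p : ℕ) (H : Subgroup G) : Subgroup G := (pPrimeCore p ↥H).map H.subtype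

/-- An offender of order `p`. -/
structure IsTrans (p : ℕ) (V H A : Subgroup G) : Prop where
  le : A ≤ H
  card : Nat.card A = p
  fixed : p * Nat.card ↥(V ⊓ Subgroup.centralizer (A : Set G)) = Nat.card V

variable [Finite G] [hp : Fact p.Prime] {V H : Subgroup G}

theorem isElementaryAbelian_of_card_prime {A : Subgroup G} (h : Nat.card A = p) :
    IsElementaryAbelian p A := by
  haveI := isCyclic_of_prime_card h
  refine ⟨inferInstance, fun a ha => ?_⟩
  rw [← orderOf_dvd_iff_pow_eq_one, ← h]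
  exact Subgroup.orderOf_dvd_natCard A ha

theorem zpowers_eq_of_card_prime {A : Subgroup G} (h : Nat.card A = p) {a : G} (ha : a ∈ A)
    (ha1 : a ≠ 1) : Subgroup.zpowers a = A :=
  (eq_bot_or_eq_of_card_prime h (Subgroup.zpowers_le.mpr ha)).resolve_left
    fun e => ha1 (Subgroup.zpowers_eq_bot.mp e)

theorem commutator_sup_le {X Y A B : Subgroup G} (hA : ⁅X, A⁆ ≤ Y) (hB : ⁅X, B⁆ ≤ Y)
    (hAY : A ≤ Subgroup.normalizer (Y : Set G)) (hBY : B ≤ Subgroup.normalizer (Y : Set G)) :
    ⁅X, A ⊔ B⁆ ≤ Y := by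
  let K : Subgroup G :=
    { carrier := {g | g ∈ Subgroup.normalizer (Y : Set G) ∧ ∀ x ∈ X, ⁅x, g⁆ ∈ Y}
      one_mem' := ⟨one_mem _, fun x _ => by simp⟩
      mul_mem' := fun {a b} ha hb => ⟨mul_mem ha.1 hb.1, fun x hx => by
        rw [commutatorElement_mul_right_eq_mul_conj, mul_assoc, mul_assoc]
        refine mul_mem (ha.2 x hx) ?_
        rw [← mul_assoc]
        exact (Subgroup.mem_normalizer_iff.mp ha.1 _).mp (hb.2 x hx)⟩
      inv_mem' := fun {a} ha => ⟨inv_mem ha.1, fun x hx => by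
        have h : ⁅x, a⁻¹⁆ = a⁻¹ * ⁅x, a⁆⁻¹ * a := by simp [commutatorElement_def, mul_assoc]
        rw [h]
        simpa using (Subgroup.mem_normalizer_iff.mp (inv_mem ha.1) _).mp (inv_mem (ha.2 x hx))⟩ }
  have hK : A ⊔ B ≤ K := sup_le
    (fun a ha => ⟨hAY ha, fun x hx => hA (Subgroup.commutator_mem_commutator hx ha)⟩)
    (fun b hb => ⟨hBY hb, fun x hx => hB (Subgroup.commutator_mem_commutator hx hb)⟩)
  exact Subgroup.commutator_le.mpr fun x hx g hg => (hK hg).2 x hx

namespace OffCtx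

variable (c : OffCtx p V H)

theorem q_le : qOf p H ≤ H := Subgroup.map_subtype_le _

theorem le_normalizer_q : H ≤ Subgroup.normalizer (qOf p H : Set G) := fun g hg =>
  Subgroup.le_normalizer_map H.subtype
    ⟨⟨g, hg⟩, (Subgroup.normalizer_eq_top_iff.mpr inferInstance).ge (Subgroup.mem_top _), rfl⟩

theorem q_coprime : (Nat.card (qOf p H)).Coprime p := by
  rw [Subgroup.card_map_of_injective H.subtype_injective]; exact card_pPrimeCore_coprime

include c

theorem eq_one_of_centralizes {h : G} (hh : h ∈ H) (hc : h ∈ Subgroup.centralizer (V : Set G)) :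
    h = 1 := Subgroup.mem_bot.mp (c.hf ▸ ⟨hh, hc⟩)

theorem mem_q_of_centralizes {h : G} (hh : h ∈ H)
    (hc : h ∈ Subgroup.centralizer (qOf p H : Set G)) : h ∈ qOf p H :=
  ⟨⟨h, hh⟩, c.hS1 (Subgroup.mem_centralizer_iff.mpr fun q hq =>
    Subtype.ext (Subgroup.mem_centralizer_iff.mp hc _ ⟨q, hq, rfl⟩)), rfl⟩

theorem q_inf_centralizer : qOf p H ⊓ Subgroup.centralizer (V : Set G) = ⊥ :=
  le_bot_iff.mp (c.hf ▸ inf_le_inf_right _ q_le)

theorem inf_centralizer_q {A : Subgroup G} (hA : A ≤ H) (hAp : IsPGroup p A) :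
    A ⊓ Subgroup.centralizer (qOf p H : Set G) = ⊥ := by
  refine le_bot_iff.mp fun x hx => ?_
  rw [← inf_eq_bot_of_isPGroup_of_coprime hAp q_coprime]
  exact ⟨hx.1, c.mem_q_of_centralizes (hA hx.1) hx.2⟩

theorem ea_of_offender {A : Subgroup G} (hA : A ≤ H) (ho : IsBestOffenderOn p V A) :
    IsElementaryAbelian p A := by
  refine ⟨Subgroup.commutator_self_eq_bot_iff.mp (le_bot_iff.mp fun x hx => ?_), fun a ha =>
    c.eq_one_of_centralizes (hA (A.pow_mem ha p)) (ho.2.2 a ha)⟩
  exact Subgroup.mem_bot.mpr (c.eq_one_of_centralizes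
    (hA ((Subgroup.le_normalizer_iff_commutator_le_left.mp Subgroup.le_normalizer) hx)) (ho.2.1 hx))

theorem bound {A : Subgroup G} (hA : A ≤ H) (hAe : IsElementaryAbelian p A) :
    Nat.card A * Nat.card ↥(V ⊓ Subgroup.centralizer (A : Set G)) ≤ Nat.card V :=
  card_mul_fixed_le V (qOf p H) c.hV (q_le.trans c.hHV) c.q_inf_centralizer q_coprime _ A le_rfl
    hAe (hA.trans c.hHV) (hA.trans le_normalizer_q)
    (c.inf_centralizer_q hA (isPGroup_of_isElementaryAbelian hAe))

theorem offender_eq {A : Subgroup G} (hA : A ≤ H) (ho : IsBestOffenderOn p V A) :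
    Nat.card A * Nat.card ↥(V ⊓ Subgroup.centralizer (A : Set G)) = Nat.card V := by
  refine le_antisymm (c.bound hA (c.ea_of_offender hA ho)) ?_
  have h := ho.1 ⊥ bot_le
  rw [Subgroup.card_bot, one_mul] at h
  refine le_trans (le_of_eq ?_) h
  rw [inf_eq_left.mpr (fun x _ => Subgroup.mem_centralizer_iff.mpr fun y hy => by
    rw [Subgroup.mem_bot.mp hy, one_mul, mul_one])]

theorem offender_of_eq {A : Subgroup G} (hA : A ≤ H) (hAe : IsElementaryAbelian p A)
    (h : Nat.card V ≤ Nat.card A * Nat.card ↥(V ⊓ Subgroup.centralizer (A : Set G))) :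
    IsBestOffenderOn p V A :=
  ⟨fun B hB => (c.bound (hB.trans hA) (isElementaryAbelian_of_le hAe hB)).trans h,
    by rw [Subgroup.commutator_self_eq_bot_iff.mpr hAe.1]; exact bot_le,
    fun a ha => by rw [hAe.2 a ha]; exact one_mem _⟩

theorem eq_bot_of_commutator_eq_bot {A : Subgroup G} (hA : A ≤ H) (h : ⁅V, A⁆ = ⊥) : A = ⊥ :=
  le_bot_iff.mp fun a ha => Subgroup.mem_bot.mpr (c.eq_one_of_centralizes (hA ha)
    (Subgroup.le_centralizer_iff.mp (Subgroup.commutator_eq_bot_iff_le_centralizer.mp h) ha))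

/-- Moving hyperplanes of offenders are offenders. -/
theorem hyperplane_offender {A B : Subgroup G} (hA : A ≤ H) (ho : IsBestOffenderOn p V A)
    (hB : IsHyp p B A) (hm : ¬ qOf p H ⊓ Subgroup.centralizer (B : Set G) ≤
      Subgroup.centralizer (A : Set G)) :
    IsBestOffenderOn p V B ∧
      Nat.card ↥(V ⊓ Subgroup.centralizer (B : Set G)) =
        p * Nat.card ↥(V ⊓ Subgroup.centralizer (A : Set G)) := by
  have hAe := c.ea_of_offender hA ho
  have h1 := fixed_lt_of_moving c.hV hAe (hA.trans c.hHV) (hA.trans le_normalizer_q)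
    (q_le.trans c.hHV) c.q_inf_centralizer q_coprime hB.1 hm
  have h2 := c.offender_eq hA ho
  have hBe := isElementaryAbelian_of_le hAe hB.1
  have h3 := c.bound (hB.1.trans hA) hBe
  have h4 : Nat.card V = Nat.card B * (p * Nat.card ↥(V ⊓ Subgroup.centralizer (A : Set G))) := by
    rw [← h2, hB.2]; ring
  refine ⟨c.offender_of_eq (hB.1.trans hA) hBe (h4.le.trans (Nat.mul_le_mul_left _ h1)), ?_⟩
  exact le_antisymm (Nat.le_of_mul_le_mul_left (h3.trans h4.le) Nat.card_pos) h1

theorem trans_of_min {A : Subgroup G} (hA : A ≤ H) (ho : IsBestOffenderOn p V A)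
    (hAV : ⁅V, A⁆ ≠ ⊥)
    (hmin : ∀ B : Subgroup G, B ≤ A → IsBestOffenderOn p V B → ⁅V, B⁆ ≠ ⊥ → B = A) :
    IsTrans p V H A := by
  have hA1 : A ≠ ⊥ := fun h => hAV (by rw [h, Subgroup.commutator_bot_right])
  have hAe := c.ea_of_offender hA ho
  obtain ⟨a, ha, ha1⟩ := A.bot_or_exists_ne_one.resolve_left hA1
  obtain ⟨B, hB, haB, hm⟩ := exists_moving_hyperplane hAe hA1 (hA.trans le_normalizer_q) q_coprime
    (c.inf_centralizer_q hA (isPGroup_of_isElementaryAbelian hAe)) ha ha1
  obtain ⟨hBo, -⟩ := c.hyperplane_offender hA ho hB hm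
  have hBb : B = ⊥ := c.eq_bot_of_commutator_eq_bot (hB.1.trans hA)
    (by_contra fun h => haB ((hmin B hB.1 hBo h).symm ▸ ha))
  have hcard : Nat.card A = p := by rw [hB.2, hBb, Subgroup.card_bot, mul_one]
  exact ⟨hA, hcard, by have := c.offender_eq hA ho; rwa [hcard] at this⟩

theorem trans_offender {A : Subgroup G} (h : IsTrans p V H A) : IsBestOffenderOn p V A :=
  c.offender_of_eq h.le (isElementaryAbelian_of_card_prime h.card) (by rw [h.card, h.fixed])

theorem trans_ne_bot {A : Subgroup G} (h : IsTrans p V H A) : A ≠ ⊥ := fun e => by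
  have := h.card
  rw [e, Subgroup.card_bot] at this
  exact hp.out.ne_one this.symm

theorem trans_moves {A : Subgroup G} (h : IsTrans p V H A) : ⁅V, A⁆ ≠ ⊥ := fun e =>
  c.trans_ne_bot h (c.eq_bot_of_commutator_eq_bot h.le e)

theorem trans_min {A : Subgroup G} (h : IsTrans p V H A) (B : Subgroup G) (hB : B ≤ A)
    (ho : IsBestOffenderOn p V B) (hBV : ⁅V, B⁆ ≠ ⊥) : B = A :=
  (eq_bot_or_eq_of_card_prime h.card hB).resolve_left fun e =>
    hBV (by rw [e, Subgroup.commutator_bot_right])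

theorem trans_map {A : Subgroup G} (h : IsTrans p V H A) {g : G} (hg : g ∈ H) :
    IsTrans p V H (A.map (MulAut.conj g).toMonoidHom) := by
  have hinj : Function.Injective (MulAut.conj g).toMonoidHom := (MulAut.conj g).injective
  refine ⟨?_, by rw [Subgroup.card_map_of_injective hinj, h.card], ?_⟩
  · rintro _ ⟨a, ha, rfl⟩
    exact H.mul_mem (H.mul_mem hg (h.le ha)) (H.inv_mem hg)
  · have hV : V.map (MulAut.conj g).toMonoidHom = V :=
      map_conj_eq_of_mem_normalizer (c.hHV hg)
    have hC : (Subgroup.centralizer (A : Set G)).map (MulAut.conj g).toMonoidHom =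
        Subgroup.centralizer ((A.map (MulAut.conj g).toMonoidHom : Subgroup G) : Set G) := by
      ext x
      constructor
      · rintro ⟨y, hy, rfl⟩
        refine Subgroup.mem_centralizer_iff.mpr ?_
        rintro _ ⟨a, ha, rfl⟩
        rw [← map_mul, ← map_mul, Subgroup.mem_centralizer_iff.mp hy a ha]
      · intro hx
        refine ⟨(MulAut.conj g).symm x, Subgroup.mem_centralizer_iff.mpr fun a ha => ?_,
          (MulAut.conj g).apply_symm_apply x⟩
        apply (MulAut.conj g).injective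
        rw [map_mul, map_mul, MulEquiv.apply_symm_apply]
        exact Subgroup.mem_centralizer_iff.mp hx _ ⟨a, ha, rfl⟩
    rw [← hC]
    nth_rewrite 1 [← hV]
    rw [← Subgroup.map_inf _ _ _ hinj, Subgroup.card_map_of_injective hinj]
    exact h.fixed

/-- Intersections of offenders inside an elementary abelian subgroup are offenders. -/
theorem offender_inf {A B B' : Subgroup G} (hA : A ≤ H) (hAe : IsElementaryAbelian p A)
    (hB : B ≤ A) (hB' : B' ≤ A) (ho : IsBestOffenderOn p V B) (ho' : IsBestOffenderOn p V B') :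
    IsBestOffenderOn p V (B ⊓ B') := by
  have hn : B' ≤ Subgroup.normalizer (B : Set G) :=
    (hB'.trans (le_centralizer_self hAe.1)).trans
      ((Subgroup.centralizer_le hB).trans (Subgroup.centralizer_le_normalizer _))
  have h1 := card_sup_mul_card_inf hn
  set P := V ⊓ Subgroup.centralizer (B : Set G) with hP
  set P' := V ⊓ Subgroup.centralizer (B' : Set G) with hP'
  have hnP : P' ≤ Subgroup.normalizer (P : Set G) :=
    (inf_le_left.trans (le_centralizer_self c.hV.1)).trans
      ((Subgroup.centralizer_le inf_le_left).trans (Subgroup.centralizer_le_normalizer _))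
  have h2 := card_sup_mul_card_inf hnP
  have hsup : P ⊔ P' ≤ V ⊓ Subgroup.centralizer ((B ⊓ B' : Subgroup G) : Set G) :=
    sup_le (inf_le_inf_left _ (Subgroup.centralizer_le inf_le_left))
      (inf_le_inf_left _ (Subgroup.centralizer_le inf_le_right))
  have hinf : P ⊓ P' ≤ V ⊓ Subgroup.centralizer ((B ⊔ B' : Subgroup G) : Set G) := by
    refine le_inf (inf_le_left.trans inf_le_left) ?_
    rw [Subgroup.le_centralizer_iff, sup_le_iff]
    exact ⟨Subgroup.le_centralizer_iff.mp (inf_le_left.trans inf_le_right),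
      Subgroup.le_centralizer_iff.mp (inf_le_right.trans inf_le_right)⟩
  have e1 := c.offender_eq (hB.trans hA) ho
  have e2 := c.offender_eq (hB'.trans hA) ho'
  rw [← hP] at e1
  rw [← hP'] at e2
  have hsupA : B ⊔ B' ≤ A := sup_le hB hB'
  have hb := c.bound (hsupA.trans hA) (isElementaryAbelian_of_le hAe hsupA)
  refine c.offender_of_eq ((inf_le_left.trans hB).trans hA)
    (isElementaryAbelian_of_le hAe (inf_le_left.trans hB)) ?_
  refine Nat.le_of_mul_le_mul_left (a := Nat.card V) ?_ (Nat.card_pos (α := V))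
  calc Nat.card V * Nat.card V = (Nat.card B * Nat.card P) * (Nat.card B' * Nat.card P') := by
        rw [e1, e2]
    _ = (Nat.card ↥(B ⊔ B') * Nat.card ↥(P ⊓ P')) * (Nat.card ↥(B ⊓ B') * Nat.card ↥(P ⊔ P')) := by
        rw [mul_mul_mul_comm, ← h1, ← h2]; ring
    _ ≤ Nat.card V * _ := Nat.mul_le_mul
        ((Nat.mul_le_mul_left _ (Subgroup.card_le_of_le hinf)).trans hb)
        (Nat.mul_le_mul_left _ (Subgroup.card_le_of_le hsup))

/-- Every best offender is a direct product of offenders of order `p`. -/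
theorem decomposition : ∀ (n : ℕ) (A : Subgroup G), Nat.card A ≤ n → A ≤ H →
    IsBestOffenderOn p V A →
    ∃ (k : ℕ) (B : Fin k → Subgroup G), (∀ i, IsTrans p V H (B i) ∧ B i ≤ A) ∧ iSupIndep B ∧
      ⨆ i, B i = A := by
  intro n
  induction n using Nat.strong_induction_on with
  | _ n ih =>
  intro A hn hA ho
  by_cases hA1 : A = ⊥
  · exact ⟨0, Fin.elim0, fun i => i.elim0, fun i => i.elim0, by simp [hA1]⟩
  have hAe := c.ea_of_offender hA ho
  have hAC := c.inf_centralizer_q hA (isPGroup_of_isElementaryAbelian hAe)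
  obtain ⟨a, ha, ha1⟩ := A.bot_or_exists_ne_one.resolve_left hA1
  obtain ⟨B, hB, haB, hm⟩ := exists_moving_hyperplane hAe hA1 (hA.trans le_normalizer_q) q_coprime
    hAC ha ha1
  obtain ⟨hBo, -⟩ := c.hyperplane_offender hA ho hB hm
  have hlt : Nat.card B < n :=
    lt_of_lt_of_le (by rw [hB.2]; exact lt_mul_left Nat.card_pos hp.out.one_lt) hn
  -- an offender of order `p` outside `B`
  obtain ⟨C, hC, hCA, hCB⟩ : ∃ C, IsTrans p V H C ∧ C ≤ A ∧ ¬ C ≤ B := by
    by_cases hBb : B = ⊥
    · refine ⟨A, c.trans_of_min hA ho (fun e => hA1 (c.eq_bot_of_commutator_eq_bot hA e))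
        fun B' hB' _ hne => ?_, le_rfl, fun h => haB (h ha)⟩
      have hcard : Nat.card A = p := by rw [hB.2, hBb, Subgroup.card_bot, mul_one]
      exact (eq_bot_or_eq_of_card_prime hcard hB').resolve_left fun e =>
        hne (by rw [e, Subgroup.commutator_bot_right])
    obtain ⟨b, hb, hb1⟩ := B.bot_or_exists_ne_one.resolve_left hBb
    obtain ⟨B', hB', hbB', hm'⟩ := exists_moving_hyperplane hAe hA1 (hA.trans le_normalizer_q)
      q_coprime hAC (hB.1 hb) hb1
    obtain ⟨hB'o, -⟩ := c.hyperplane_offender hA ho hB' hm'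
    obtain ⟨k, D, hD, -, hsup⟩ := ih (Nat.card B') (lt_of_lt_of_le
      (by rw [hB'.2]; exact lt_mul_left Nat.card_pos hp.out.one_lt) hn) B' le_rfl (hB'.1.trans hA) hB'o
    by_contra hcon
    push Not at hcon
    have hle : B' ≤ B := hsup ▸ iSup_le fun i => hcon _ (hD i).1 ((hD i).2.trans hB'.1)
    have : B' = B := Subgroup.eq_of_le_of_card_ge hle (by
      have h1 := hB.2; have h2 := hB'.2
      exact le_of_eq (Nat.eq_of_mul_eq_mul_left hp.out.pos (h1.symm.trans h2)))
    exact hbB' (this ▸ hb)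
  obtain ⟨k, D, hD, hind, hsup⟩ := ih (Nat.card B) hlt B le_rfl (hB.1.trans hA) hBo
  have hCBd : C ⊓ B = ⊥ :=
    (eq_bot_or_eq_of_card_prime hC.card inf_le_left).resolve_right fun e => hCB (inf_eq_left.mp e)
  have htop : B ⊔ C = A := by
    refine Subgroup.eq_of_le_of_card_ge (sup_le hB.1 hCA) ?_
    have h := card_sup_mul_card_inf (H := B) (K := C)
      ((hCA.trans (le_centralizer_self hAe.1)).trans
        ((Subgroup.centralizer_le hB.1).trans (Subgroup.centralizer_le_normalizer _)))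
    rw [inf_comm, hCBd, Subgroup.card_bot, mul_one, hC.card] at h
    rw [h, hB.2, mul_comm]
  refine ⟨k + 1, Fin.cons C D, Fin.cases ⟨hC, hCA⟩ fun i => ⟨(hD i).1, (hD i).2.trans hB.1⟩, ?_, ?_⟩
  · intro i
    rw [disjoint_iff]
    cases i using Fin.cases with
    | zero =>
      refine le_bot_iff.mp (le_trans (inf_le_inf_left _ (iSup₂_le fun j hj => ?_)) hCBd.le)
      cases j using Fin.cases with
      | zero => exact absurd rfl hj
      | succ j => rw [Fin.cons_succ, ← hsup]; exact le_iSup D j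
    | succ i =>
      rw [Fin.cons_succ]
      refine le_bot_iff.mp fun x hx => ?_
      have hle : (⨆ j, ⨆ (_ : j ≠ i.succ), (Fin.cons C D : Fin (k + 1) → Subgroup G) j) ≤
          C ⊔ ⨆ j, ⨆ (_ : j ≠ i), D j := by
        refine iSup₂_le fun j hj => ?_
        cases j using Fin.cases with
        | zero => exact le_sup_left
        | succ j =>
          rw [Fin.cons_succ]
          exact le_sup_of_le_right (le_iSup₂_of_le j (fun e => hj (by rw [e])) le_rfl)
      have hDB : (⨆ j, ⨆ (_ : j ≠ i), D j) ≤ B := iSup₂_le fun j _ => hsup ▸ le_iSup D j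
      have hx2 : x ∈ ((C ⊔ ⨆ j, ⨆ (_ : j ≠ i), D j : Subgroup G) : Set G) := hle hx.2
      rw [Subgroup.coe_mul_of_right_le_normalizer_left _ _
        (((hDB.trans hB.1).trans (le_centralizer_self hAe.1)).trans
          ((Subgroup.centralizer_le hCA).trans (Subgroup.centralizer_le_normalizer _)))] at hx2
      obtain ⟨u, hu, w, hw, rfl⟩ := hx2
      have huB : u ∈ B := by
        have h1 : u * w ∈ B := hsup ▸ Subgroup.mem_iSup_of_mem i hx.1
        have h2 := mul_mem h1 (inv_mem (hDB hw))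
        rwa [mul_inv_cancel_right] at h2
      have hu1 : u = 1 := Subgroup.mem_bot.mp (hCBd ▸ (⟨hu, huB⟩ : u ∈ C ⊓ B))
      subst hu1
      have h3 := disjoint_iff.mp (hind i)
      rw [← h3]
      exact ⟨hx.1, by simpa using hw⟩
  · refine le_antisymm (iSup_le (Fin.cases hCA fun i => (hD i).2.trans hB.1)) ?_
    rw [← htop, ← hsup]
    exact sup_le (iSup_le fun i => le_iSup_of_le i.succ (by rw [Fin.cons_succ]))
      (le_iSup_of_le 0 (by rw [Fin.cons_zero]))

omit c

end OffCtx

section Trans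

variable (c : OffCtx p V H) {A B : Subgroup G}
include c

theorem trans_normalizes (hA : IsTrans p V H A) : A ≤ Subgroup.normalizer (V : Set G) :=
  hA.le.trans c.hHV

theorem centre_le_V (hA : IsTrans p V H A) : ⁅V, A⁆ ≤ V :=
  commutator_le_of_le_normalizer (trans_normalizes c hA)

/-- The centre `[V, A]` has order `p` and is centralized by `A`. -/
theorem centre_spec (hA : IsTrans p V H A) :
    Nat.card ↥⁅V, A⁆ = p ∧ ⁅V, A⁆ ≤ Subgroup.centralizer (A : Set G) := by
  obtain ⟨a, ha, ha1⟩ := A.bot_or_exists_ne_one.resolve_left (c.trans_ne_bot hA)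
  have hza := zpowers_eq_of_card_prime hA.card ha ha1
  have han := trans_normalizes c hA ha
  set f := commHom V c.hV.1 a han with hfdef
  set R := f.range.map V.subtype with hR
  have hker : Nat.card f.ker = Nat.card ↥(V ⊓ Subgroup.centralizer (A : Set G)) := by
    have h := commHom_ker c.hV.1 han
    rw [hza, ← hfdef] at h
    rw [← h, Subgroup.card_map_of_injective V.subtype_injective]
  have hRcard : Nat.card R = p := by
    rw [hR, Subgroup.card_map_of_injective V.subtype_injective, ← Subgroup.index_ker]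
    have h := Subgroup.card_mul_index f.ker
    rw [hker] at h
    have h2 := hA.fixed
    rw [← h, mul_comm p] at h2
    exact (Nat.eq_of_mul_eq_mul_left Nat.card_pos h2).symm
  have hRV : R ≤ V := Subgroup.map_subtype_le _
  have hmem : ∀ v ∈ V, ⁅v, a⁆ ∈ R := fun v hv =>
    ⟨f ⟨v, hv⟩, ⟨⟨v, hv⟩, rfl⟩, coe_commHom c.hV.1 han ⟨v, hv⟩⟩
  have hn : A ≤ Subgroup.normalizer (R : Set G) := by
    rw [← hza, Subgroup.zpowers_le]
    refine mem_normalizer_of_map_conj_le ?_
    rintro _ ⟨_, ⟨_, ⟨v, rfl⟩, rfl⟩, rfl⟩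
    show a * (f v : G) * a⁻¹ ∈ R
    rw [hfdef, coe_commHom, conjugate_commutatorElement, mul_inv_cancel_right]
    exact hmem _ ((Subgroup.mem_normalizer_iff.mp han _).mp v.2)
  have hcR : ⁅R, A⁆ = ⊥ := by
    rcases eq_bot_or_eq_of_card_prime hRcard (commutator_le_of_le_normalizer hn) with h | h
    · exact h
    · exfalso
      have hP : IsPGroup p (R ⊔ A : Subgroup G) :=
        ((isPGroup_of_isElementaryAbelian c.hV).to_le hRV).to_sup_of_normal_left'
          (isPGroup_of_isElementaryAbelian (isElementaryAbelian_of_card_prime hA.card)) hn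
      have := eq_bot_of_commutator_eq_self hP le_sup_left
        (h.ge.trans (Subgroup.commutator_mono le_rfl le_sup_right))
      rw [this, Subgroup.card_bot] at hRcard
      exact hp.out.ne_one hRcard.symm
  have hVA : ⁅V, A⁆ = R := by
    apply le_antisymm
    · rw [Subgroup.commutator_le]
      intro v hv b hb
      rw [← hza] at hb
      obtain ⟨i, rfl⟩ : b ∈ Submonoid.powers a :=
        (isOfFinOrder_of_finite a).mem_powers_iff_mem_zpowers.mpr hb
      dsimp only
      induction i with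
      | zero => simp
      | succ i ihi =>
        rw [pow_succ', commutatorElement_mul_right_eq_mul_conj, mul_assoc, mul_assoc]
        refine mul_mem (hmem v hv) ?_
        rw [← mul_assoc]
        exact (Subgroup.mem_normalizer_iff.mp (hn ha) _).mp (ihi (Subgroup.pow_mem _ (Subgroup.mem_zpowers a) i))
    · rintro _ ⟨_, ⟨v, rfl⟩, rfl⟩
      show (f v : G) ∈ _
      rw [hfdef, coe_commHom]
      exact Subgroup.commutator_mem_commutator v.2 ha
  rw [hVA]
  exact ⟨hRcard, Subgroup.commutator_eq_bot_iff_le_centralizer.mp hcR⟩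

theorem centre_le_fixed (hA : IsTrans p V H A) : ⁅V, A⁆ ≤ V ⊓ Subgroup.centralizer (A : Set G) :=
  le_inf (centre_le_V c hA) (centre_spec c hA).2

/-- Elements of an offender of order `p` are separated by any vector they move. -/
theorem shift (hB : IsTrans p V H B) {e : G} (he : e ∈ V)
    (hne : e ∉ Subgroup.centralizer (B : Set G)) {w : G} (hw : w ∈ ⁅V, B⁆) :
    ∃ b ∈ B, b * e * b⁻¹ = e * w := by
  have hVB := centre_spec c hB
  let F : B → ↥⁅V, B⁆ := fun b => ⟨⁅e, (b : G)⁆, Subgroup.commutator_mem_commutator he b.2⟩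
  have hFi : Function.Injective F := by
    intro b b' h
    have h' : ⁅e, (b : G)⁆ = ⁅e, (b' : G)⁆ := congrArg Subtype.val h
    by_contra hbb
    apply hne
    have hmem : (b' : G)⁻¹ * b ∈ Subgroup.centralizer {e} := by
      rw [Subgroup.mem_centralizer_singleton_iff]
      have h1 : (b : G) * e⁻¹ * (b : G)⁻¹ = (b' : G) * e⁻¹ * (b' : G)⁻¹ := by
        rw [commutatorElement_def, commutatorElement_def] at h'
        calc (b : G) * e⁻¹ * (b : G)⁻¹ = e⁻¹ * (e * b * e⁻¹ * (b : G)⁻¹) := by group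
          _ = e⁻¹ * (e * b' * e⁻¹ * (b' : G)⁻¹) := by rw [h']
          _ = (b' : G) * e⁻¹ * (b' : G)⁻¹ := by group
      have h2 : (b : G) * e * (b : G)⁻¹ = (b' : G) * e * (b' : G)⁻¹ := by
        have := congrArg (·⁻¹) h1
        simpa [mul_assoc] using this
      calc (b' : G)⁻¹ * b * e = (b' : G)⁻¹ * ((b : G) * e * (b : G)⁻¹) * b := by group
        _ = (b' : G)⁻¹ * ((b' : G) * e * (b' : G)⁻¹) * b := by rw [h2]
        _ = e * ((b' : G)⁻¹ * b) := by group
    have hne1 : (b' : G)⁻¹ * b ≠ 1 := fun e1 => hbb (Subtype.ext (inv_mul_eq_one.mp e1).symm)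
    have hz := zpowers_eq_of_card_prime hB.card (B.mul_mem (B.inv_mem b'.2) b.2) hne1
    rw [Subgroup.mem_centralizer_iff]
    intro x hx
    exact Subgroup.mem_centralizer_singleton_iff.mp
      ((hz ▸ Subgroup.zpowers_le.mpr hmem : B ≤ Subgroup.centralizer {e}) hx)
  obtain ⟨b, hb⟩ := ((Nat.bijective_iff_injective_and_card F).mpr
    ⟨hFi, by rw [hB.card, hVB.1]⟩).2 ⟨w⁻¹, inv_mem hw⟩
  refine ⟨b, b.2, ?_⟩
  have hb' : ⁅e, (b : G)⁆ = w⁻¹ := congrArg Subtype.val hb
  rw [conj_eq_mul_commutator, hb', inv_inv]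
  exact elemAb_comm c.hV.1 (centre_le_V c hB hw) he

/-- If the centre of `A` is fixed by `B` then `A` and `B` generate a `p`-group. -/
theorem isPGroup_sup_of_fixed (hA : IsTrans p V H A) (hB : IsTrans p V H B)
    (h : ⁅V, A⁆ ≤ Subgroup.centralizer (B : Set G)) : IsPGroup p (A ⊔ B : Subgroup G) := by
  set W := ⁅V, A⁆ ⊔ ⁅V, B⁆ with hW
  have hWV : W ≤ V := sup_le (centre_le_V c hA) (centre_le_V c hB)
  have hfixA : A ≤ Subgroup.centralizer ((⁅V, A⁆ : Subgroup G) : Set G) :=
    Subgroup.le_centralizer_iff.mp (centre_spec c hA).2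
  have hfixB : B ≤ Subgroup.centralizer ((⁅V, A⁆ : Subgroup G) : Set G) :=
    Subgroup.le_centralizer_iff.mp h
  have hWA : A ≤ Subgroup.normalizer (W : Set G) :=
    Subgroup.le_normalizer_iff_commutator_le_left.mpr
      ((Subgroup.commutator_mono hWV le_rfl).trans le_sup_left)
  have hWB : B ≤ Subgroup.normalizer (W : Set G) :=
    Subgroup.le_normalizer_iff_commutator_le_left.mpr
      ((Subgroup.commutator_mono hWV le_rfl).trans le_sup_right)
  have h1 : ⁅V, A ⊔ B⁆ ≤ W := commutator_sup_le le_sup_left le_sup_right hWA hWB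
  have hcB : ⁅W, B⁆ = ⊥ := Subgroup.commutator_eq_bot_iff_le_centralizer.mpr
    (sup_le h (centre_spec c hB).2)
  have h2 : ⁅W, A ⊔ B⁆ ≤ ⁅V, A⁆ := commutator_sup_le (Subgroup.commutator_mono hWV le_rfl)
    (hcB ▸ bot_le) (hfixA.trans (Subgroup.centralizer_le_normalizer _))
    (hfixB.trans (Subgroup.centralizer_le_normalizer _))
  have h3 : ⁅⁅W, A ⊔ B⁆, A ⊔ B⁆ = ⊥ := by
    rw [Subgroup.commutator_eq_bot_iff_le_centralizer]
    exact h2.trans (Subgroup.le_centralizer_iff.mp (sup_le hfixA hfixB))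
  have hWe := isElementaryAbelian_of_le c.hV hWV
  intro g
  refine ⟨1 + 1, Subtype.ext ?_⟩
  show (g : G) ^ p ^ (1 + 1) = 1
  rw [pow_add, pow_one, pow_mul]
  set x : G := (g : G) ^ p with hx
  have hxC : x ∈ Subgroup.centralizer (W : Set G) :=
    quadratic_pow_mem_centralizer hWe (sup_le hWA hWB) h3 g.2
  have hxL : x ∈ A ⊔ B := (A ⊔ B).pow_mem g.2 p
  have hxH : x ∈ H := (sup_le hA.le hB.le : A ⊔ B ≤ H) hxL
  refine c.eq_one_of_centralizes (H.pow_mem hxH p)
    (quadratic_pow_mem_centralizer c.hV (H := Subgroup.zpowers x)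
      (Subgroup.zpowers_le.mpr (c.hHV hxH)) ?_ (Subgroup.mem_zpowers x))
  rw [Subgroup.commutator_eq_bot_iff_le_centralizer]
  refine (Subgroup.commutator_mono le_rfl (Subgroup.zpowers_le.mpr hxL)).trans (h1.trans ?_)
  rw [Subgroup.le_centralizer_iff, Subgroup.zpowers_le]
  exact hxC

/-- A `p`-subgroup of `Q A` containing `A` is `A`. -/
theorem eq_of_isPGroup_le_q_sup (hA : IsTrans p V H A) {L : Subgroup G} (hL : IsPGroup p L)
    (hAL : A ≤ L) (hLQ : L ≤ qOf p H ⊔ A) : L = A := by
  refine le_antisymm (fun x hx => ?_) hAL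
  have hx' : x ∈ ((qOf p H ⊔ A : Subgroup G) : Set G) := hLQ hx
  rw [Subgroup.coe_mul_of_right_le_normalizer_left _ _
    (hA.le.trans OffCtx.le_normalizer_q)] at hx'
  obtain ⟨q, hq, a, ha, rfl⟩ := hx'
  have hqL : q ∈ L ⊓ qOf p H := by
    refine ⟨?_, hq⟩
    have := mul_mem hx (inv_mem (hAL ha))
    rwa [mul_inv_cancel_right] at this
  rw [inf_eq_bot_of_isPGroup_of_coprime hL OffCtx.q_coprime, Subgroup.mem_bot] at hqL
  subst hqL
  simpa using ha

/-- The centres of two distinct offenders of order `p` in one `Q A` are moved by each other. -/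
theorem moves_centre_of_ne (hA : IsTrans p V H A) (hB : IsTrans p V H B)
    (hBQ : B ≤ qOf p H ⊔ A) (hne : B ≠ A) : ¬ ⁅V, A⁆ ≤ Subgroup.centralizer (B : Set G) := by
  intro h
  have h1 := eq_of_isPGroup_le_q_sup c hA (isPGroup_sup_of_fixed c hA hB h) le_sup_left
    (sup_le le_sup_right hBQ)
  exact hne (Subgroup.eq_of_le_of_card_ge (h1 ▸ le_sup_right) (by rw [hA.card, hB.card]))

omit c

end Trans

end Cfsg.Agent.Thompson.Off
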