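import Mathlib
import Cfsg.Prelude.Def_PLocal
import Cfsg.Agent.Lib.Thompson.Offender.Transvection
import Cfsg.Agent.Lib.LinearGroup.Generation
import Cfsg.Agent.Lib.LinearGroup.Card
import Cfsg.Agent.Lib.Coprime.Generation

/-!
An opposite pair of offenders of order `p` generates `SL(2, p)` on its plane; all `Q`-conjugates
of an offender of order `p` lie in one such pair.
-/

set_option autoImplicit false
set_option linter.unusedVariables false
set_option linter.style.haveILetI false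
set_option linter.unusedSectionVars false

namespace Cfsg.Agent.Thompson.Off

open Cfsg
open scoped commutatorElement MatrixGroups

variable {G : Type*} [Group G] {p : ℕ}

/-- An opposite pair. -/
structure IsOpp (p : ℕ) (V H A B : Subgroup G) : Prop where
  hA : IsTrans p V H A
  hB : IsTrans p V H B
  mA : ¬ ⁅V, A⁆ ≤ Subgroup.centralizer (B : Set G)
  mB : ¬ ⁅V, B⁆ ≤ Subgroup.centralizer (A : Set G)

theorem IsOpp.symm {V H A B : Subgroup G} (o : IsOpp p V H A B) : IsOpp p V H B A :=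
  ⟨o.hB, o.hA, o.mB, o.mA⟩

/-- `C` is a `Q`-conjugate of `A₀`. -/
def InQA (p : ℕ) (H A₀ C : Subgroup G) : Prop :=
  ∃ q ∈ qOf p H, C = A₀.map (MulAut.conj q).toMonoidHom

/-- `[Q, A] A`. -/
abbrev eOf (p : ℕ) (H A : Subgroup G) : Subgroup G := ⁅qOf p H, A⁆ ⊔ A

theorem map_map_conj (A : Subgroup G) (a b : G) :
    (A.map (MulAut.conj b).toMonoidHom).map (MulAut.conj a).toMonoidHom =
      A.map (MulAut.conj (a * b)).toMonoidHom := by
  rw [Subgroup.map_map, map_mul]; rfl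

theorem centralizer_sup (A B : Subgroup G) :
    Subgroup.centralizer ((A ⊔ B : Subgroup G) : Set G) =
      Subgroup.centralizer (A : Set G) ⊓ Subgroup.centralizer (B : Set G) := by
  refine le_antisymm (le_inf (Subgroup.centralizer_le (le_sup_left : A ≤ A ⊔ B))
    (Subgroup.centralizer_le (le_sup_right : B ≤ A ⊔ B))) ?_
  rw [Subgroup.le_centralizer_iff, sup_le_iff]
  exact ⟨Subgroup.le_centralizer_iff.mp inf_le_left, Subgroup.le_centralizer_iff.mp inf_le_right⟩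

variable [Finite G] [hp : Fact p.Prime] {V H : Subgroup G} (c : OffCtx p V H)
include c

namespace IsOpp

variable {A B : Subgroup G} (o : IsOpp p V H A B)
include o

theorem centre_inf_fixed : ⁅V, A⁆ ⊓ Subgroup.centralizer (B : Set G) = ⊥ :=
  (eq_bot_or_eq_of_card_prime (centre_spec c o.hA).1 inf_le_left).resolve_right
    fun e => o.mA (inf_eq_left.mp e)

theorem centre_inf : ⁅V, A⁆ ⊓ ⁅V, B⁆ = ⊥ :=
  le_bot_iff.mp ((inf_le_inf_left _ (centre_spec c o.hB).2).trans (o.centre_inf_fixed c).le)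

theorem le_normalizer_plane : A ⊔ B ≤ Subgroup.normalizer ((⁅V, A⁆ ⊔ ⁅V, B⁆ : Subgroup G) : Set G) := by
  have hWV : ⁅V, A⁆ ⊔ ⁅V, B⁆ ≤ V := sup_le (centre_le_V c o.hA) (centre_le_V c o.hB)
  refine sup_le ?_ ?_ <;> rw [Subgroup.le_normalizer_iff_commutator_le_left]
  · exact (Subgroup.commutator_mono hWV le_rfl).trans le_sup_left
  · exact (Subgroup.commutator_mono hWV le_rfl).trans le_sup_right

theorem commutator_eq : ⁅V, A ⊔ B⁆ = ⁅V, A⁆ ⊔ ⁅V, B⁆ :=
  le_antisymm (commutator_sup_le le_sup_left le_sup_right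
      (le_sup_left.trans (o.le_normalizer_plane c)) (le_sup_right.trans (o.le_normalizer_plane c)))
    (sup_le (Subgroup.commutator_mono le_rfl le_sup_left)
      (Subgroup.commutator_mono le_rfl le_sup_right))

theorem plane_normal_right : ⁅V, B⁆ ≤ Subgroup.normalizer ((⁅V, A⁆ : Subgroup G) : Set G) :=
  ((centre_le_V c o.hB).trans (le_centralizer_self c.hV.1)).trans
    ((Subgroup.centralizer_le (centre_le_V c o.hA)).trans (Subgroup.centralizer_le_normalizer _))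

theorem card_plane : Nat.card ↥(⁅V, A⁆ ⊔ ⁅V, B⁆) = p ^ 2 := by
  have h := card_sup_mul_card_inf (o.plane_normal_right c)
  rw [o.centre_inf c, Subgroup.card_bot, mul_one, (centre_spec c o.hA).1,
    (centre_spec c o.hB).1] at h
  rw [h, sq]

theorem exists_plane_eq {x : G} (hx : x ∈ ⁅V, A⁆ ⊔ ⁅V, B⁆) :
    ∃ u ∈ ⁅V, A⁆, ∃ w ∈ ⁅V, B⁆, u * w = x := by
  rw [← SetLike.mem_coe, Subgroup.coe_mul_of_right_le_normalizer_left _ _
    (o.plane_normal_right c)] at hx
  exact hx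

theorem plane_inf_fixed : (⁅V, A⁆ ⊔ ⁅V, B⁆) ⊓
    (V ⊓ Subgroup.centralizer ((A ⊔ B : Subgroup G) : Set G)) = ⊥ := by
  rw [centralizer_sup, eq_bot_iff]
  rintro x ⟨hx, -, hxA, hxB⟩
  obtain ⟨u, hu, w, hw, rfl⟩ := o.exists_plane_eq c hx
  have hw1 : w = 1 := by
    have h1 : w ∈ ⁅V, B⁆ ⊓ Subgroup.centralizer (A : Set G) := by
      refine ⟨hw, ?_⟩
      have := mul_mem (inv_mem ((centre_spec c o.hA).2 hu)) hxA
      rwa [inv_mul_cancel_left] at this
    rw [o.symm.centre_inf_fixed c] at h1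
    exact h1
  subst hw1
  rw [mul_one] at hxB ⊢
  exact (o.centre_inf_fixed c).le ⟨hu, hxB⟩

theorem plane_sup_fixed : (⁅V, A⁆ ⊔ ⁅V, B⁆) ⊔
    (V ⊓ Subgroup.centralizer ((A ⊔ B : Subgroup G) : Set G)) = V := by
  set W := ⁅V, A⁆ ⊔ ⁅V, B⁆ with hW
  set K := V ⊓ Subgroup.centralizer ((A ⊔ B : Subgroup G) : Set G) with hK
  have hWV : W ≤ V := sup_le (centre_le_V c o.hA) (centre_le_V c o.hB)
  refine Subgroup.eq_of_le_of_card_ge (sup_le hWV inf_le_left) ?_
  have hn : ∀ X Y : Subgroup G, X ≤ V → Y ≤ V → Y ≤ Subgroup.normalizer (X : Set G) :=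
    fun X Y hX hY => (hY.trans (le_centralizer_self c.hV.1)).trans
      ((Subgroup.centralizer_le hX).trans (Subgroup.centralizer_le_normalizer _))
  have h1 := card_sup_mul_card_inf (hn W K hWV inf_le_left)
  rw [o.plane_inf_fixed c, Subgroup.card_bot, mul_one, o.card_plane c] at h1
  have hKeq : K = (V ⊓ Subgroup.centralizer (A : Set G)) ⊓ (V ⊓ Subgroup.centralizer (B : Set G)) := by
    rw [hK, centralizer_sup, inf_inf_distrib_left]
  have h2 := card_sup_mul_card_inf (hn (V ⊓ Subgroup.centralizer (A : Set G))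
    (V ⊓ Subgroup.centralizer (B : Set G)) inf_le_left inf_le_left)
  rw [← hKeq] at h2
  have h3 : Nat.card V * Nat.card V ≤ Nat.card V * (p ^ 2 * Nat.card K) := by
    calc Nat.card V * Nat.card V = p * p * (Nat.card ↥(V ⊓ Subgroup.centralizer (A : Set G)) *
          Nat.card ↥(V ⊓ Subgroup.centralizer (B : Set G))) := by
          nth_rewrite 1 [← o.hA.fixed]; rw [← o.hB.fixed]; ring
      _ = Nat.card ↥((V ⊓ Subgroup.centralizer (A : Set G)) ⊔
          (V ⊓ Subgroup.centralizer (B : Set G))) * (p ^ 2 * Nat.card K) := by rw [← h2]; ring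
      _ ≤ _ := Nat.mul_le_mul_right _ (Subgroup.card_le_of_le (sup_le inf_le_left inf_le_left))
  rw [h1]
  exact Nat.le_of_mul_le_mul_left h3 Nat.card_pos

theorem eq_one_of_fix_plane {g : G} (hg : g ∈ A ⊔ B)
    (hW : g ∈ Subgroup.centralizer ((⁅V, A⁆ ⊔ ⁅V, B⁆ : Subgroup G) : Set G)) : g = 1 := by
  refine c.eq_one_of_centralizes ((sup_le o.hA.le o.hB.le : A ⊔ B ≤ H) hg) ?_
  have h : V ≤ Subgroup.centralizer (Subgroup.zpowers g : Set G) := by
    conv_lhs => rw [← o.plane_sup_fixed c]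
    refine sup_le (Subgroup.le_centralizer_iff.mpr (Subgroup.zpowers_le.mpr hW)) ?_
    exact inf_le_right.trans (Subgroup.centralizer_le (Subgroup.zpowers_le.mpr hg))
  exact Subgroup.le_centralizer_iff.mp h (Subgroup.mem_zpowers g)

/-- Some conjugate of `A` or `B` has any given line of the plane as centre. -/
theorem exists_conj_centre {z : G} (hz : z ∈ ⁅V, A⁆ ⊔ ⁅V, B⁆) :
    (z ∈ ⁅V, B⁆) ∨ ∃ b ∈ B, z ∈ ⁅V, A.map (MulAut.conj b).toMonoidHom⁆ := by
  obtain ⟨u, hu, w, hw, rfl⟩ := o.exists_plane_eq c hz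
  by_cases hu1 : u = 1
  · left; subst hu1; simpa using hw
  right
  have hne : u ∉ Subgroup.centralizer (B : Set G) := fun h =>
    hu1 (Subgroup.mem_bot.mp ((o.centre_inf_fixed c).le ⟨hu, h⟩))
  obtain ⟨b, hb, hbe⟩ := shift c o.hB (centre_le_V c o.hA hu) hne hw
  refine ⟨b, hb, ?_⟩
  rw [← map_conj_commutator V (trans_normalizes c o.hB hb)]
  exact ⟨u, hu, hbe⟩

/-- `⟨A, B⟩ ≅ SL(2, p)`. -/
theorem nonempty_equiv_SL :
    Nonempty (↥(A ⊔ B) ≃* Matrix.SpecialLinearGroup (Fin 2) (ZMod p)) := by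
  classical
  haveI : NeZero p := ⟨hp.out.ne_zero⟩
  set W := ⁅V, A⁆ ⊔ ⁅V, B⁆ with hWdef
  have hWV : W ≤ V := sup_le (centre_le_V c o.hA) (centre_le_V c o.hB)
  have hLA := centre_spec c o.hA
  have hLB := centre_spec c o.hB
  obtain ⟨e, he, he1⟩ := (⁅V, A⁆).bot_or_exists_ne_one.resolve_left fun h => by
    have := hLA.1; rw [h, Subgroup.card_bot] at this; exact hp.out.ne_one this.symm
  obtain ⟨f, hf, hf1⟩ := (⁅V, B⁆).bot_or_exists_ne_one.resolve_left fun h => by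
    have := hLB.1; rw [h, Subgroup.card_bot] at this; exact hp.out.ne_one this.symm
  have heV := centre_le_V c o.hA he
  have hfV := centre_le_V c o.hB hf
  have hep : e ^ p = 1 := c.hV.2 e heV
  have hfp : f ^ p = 1 := c.hV.2 f hfV
  let θ : (Fin 2 → ZMod p) → G := fun v => e ^ (v 0).val * f ^ (v 1).val
  have hθW : ∀ v, θ v ∈ W := fun v =>
    mul_mem (Subgroup.mem_sup_left (pow_mem he _)) (Subgroup.mem_sup_right (pow_mem hf _))
  have hcomm : ∀ i j : ℕ, f ^ i * e ^ j = e ^ j * f ^ i := fun i j =>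
    elemAb_comm c.hV.1 (pow_mem hfV i) (pow_mem heV j)
  have hθadd : ∀ v w, θ (v + w) = θ v * θ w := fun v w => by
    simp only [θ, Pi.add_apply]
    rw [Coprime.pow_val_add hep, Coprime.pow_val_add hfp]
    calc e ^ (v 0).val * e ^ (w 0).val * (f ^ (v 1).val * f ^ (w 1).val)
        = e ^ (v 0).val * (e ^ (w 0).val * f ^ (v 1).val) * f ^ (w 1).val := by group
      _ = e ^ (v 0).val * (f ^ (v 1).val * e ^ (w 0).val) * f ^ (w 1).val := by rw [hcomm]
      _ = _ := by group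
  have hpowmod : ∀ {x : G}, x ^ p = 1 → ∀ n : ℕ, x ^ ((n : ZMod p)).val = x ^ n := fun hx n => by
    rw [ZMod.val_natCast, ← pow_eq_pow_mod n hx]
  let Θ₀ : (Fin 2 → ZMod p) → W := fun v => ⟨θ v, hθW v⟩
  have hbij : Function.Bijective Θ₀ := by
    rw [Nat.bijective_iff_surjective_and_card]
    refine ⟨fun x => ?_, by rw [o.card_plane c, Nat.card_fun]; simp⟩
    obtain ⟨u, hu, w, hw, huw⟩ := o.exists_plane_eq c x.2
    rw [← zpowers_eq_of_card_prime hLA.1 he he1] at hu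
    rw [← zpowers_eq_of_card_prime hLB.1 hf hf1] at hw
    obtain ⟨i, rfl⟩ : u ∈ Submonoid.powers e :=
      (isOfFinOrder_of_finite e).mem_powers_iff_mem_zpowers.mpr hu
    obtain ⟨j, rfl⟩ : w ∈ Submonoid.powers f :=
      (isOfFinOrder_of_finite f).mem_powers_iff_mem_zpowers.mpr hw
    refine ⟨![(i : ZMod p), (j : ZMod p)], Subtype.ext ?_⟩
    show θ _ = (x : G)
    rw [← huw]
    simp [θ, ← pow_eq_pow_mod _ hep, ← pow_eq_pow_mod _ hfp]
  let Θ := Equiv.ofBijective Θ₀ hbij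
  have hinjθ : Function.Injective θ := fun v w h => hbij.1 (Subtype.ext h)
  have hmem : ∀ (g : ↥(A ⊔ B)) (v : Fin 2 → ZMod p), (g : G) * θ v * (g : G)⁻¹ ∈ W := fun g v =>
    (Subgroup.mem_normalizer_iff.mp (o.le_normalizer_plane c g.2) _).mp (hθW v)
  let T : ↥(A ⊔ B) → (Fin 2 → ZMod p) → (Fin 2 → ZMod p) := fun g v =>
    Θ.symm ⟨(g : G) * θ v * (g : G)⁻¹, hmem g v⟩
  have hT : ∀ g v, θ (T g v) = (g : G) * θ v * (g : G)⁻¹ := fun g v =>
    congrArg Subtype.val (Θ.apply_symm_apply ⟨(g : G) * θ v * (g : G)⁻¹, hmem g v⟩)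
  let Tl : ↥(A ⊔ B) → ((Fin 2 → ZMod p) →ₗ[ZMod p] (Fin 2 → ZMod p)) := fun g =>
    (AddMonoidHom.mk' (T g) (fun v w => hinjθ (by
      rw [hθadd, hT, hT, hT, hθadd]; group))).toZModLinearMap p
  have hTl : ∀ g v, θ (Tl g v) = (g : G) * θ v * (g : G)⁻¹ := hT
  let ρ : ↥(A ⊔ B) →* Matrix (Fin 2) (Fin 2) (ZMod p) :=
    { toFun := fun g => LinearMap.toMatrix' (Tl g)
      map_one' := by
        rw [show Tl 1 = LinearMap.id from LinearMap.ext fun v => hinjθ (by rw [hTl]; simp)]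
        exact LinearMap.toMatrix'_id
      map_mul' := fun g h => by
        rw [show Tl (g * h) = (Tl g).comp (Tl h) from LinearMap.ext fun v => hinjθ (by
          rw [LinearMap.comp_apply, hTl, hTl, hTl]; simp [mul_assoc])]
        exact LinearMap.toMatrix'_comp _ _ }
  have hρ : ∀ g i j, ρ g i j = Tl g (Pi.single j 1) i := fun g i j => by
    show LinearMap.toMatrix' (Tl g) i j = _
    rw [LinearMap.toMatrix'_apply]
  have hθ0 : θ (Pi.single (0 : Fin 2) (1 : ZMod p)) = e := by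
    haveI : Fact (1 < p) := ⟨hp.out.one_lt⟩
    simp [θ, ZMod.val_one]
  have hθ1 : θ (Pi.single (1 : Fin 2) (1 : ZMod p)) = f := by
    haveI : Fact (1 < p) := ⟨hp.out.one_lt⟩
    simp [θ, ZMod.val_one]
  have hfixA : ∀ a ∈ A, a * e * a⁻¹ = e := fun a ha => by
    rw [Subgroup.mem_centralizer_iff.mp (hLA.2 he) a ha, mul_inv_cancel_right]
  have hfixB : ∀ b ∈ B, b * f * b⁻¹ = f := fun b hb => by
    rw [Subgroup.mem_centralizer_iff.mp (hLB.2 hf) b hb, mul_inv_cancel_right]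
  haveI : Fact (1 < p) := ⟨hp.out.one_lt⟩
  have hform : ∀ (g : ↥(A ⊔ B)), (g : G) ∈ A → ∀ t : ZMod p,
      (g : G) * f * (g : G)⁻¹ = e ^ t.val * f → ρ g = !![1, t; 0, 1] := by
    intro g hg t h
    have h0 : Tl g (Pi.single (0 : Fin 2) 1) = ![1, 0] := hinjθ (by
      rw [hTl, hθ0, hfixA _ hg]; simp [θ, ZMod.val_one])
    have h1 : Tl g (Pi.single (1 : Fin 2) 1) = ![t, 1] := hinjθ (by
      rw [hTl, hθ1, h]; simp [θ, ZMod.val_one])
    ext i j
    rw [hρ]
    fin_cases j <;> fin_cases i <;> simp [h0, h1]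
  have hform' : ∀ (g : ↥(A ⊔ B)), (g : G) ∈ B → ∀ t : ZMod p,
      (g : G) * e * (g : G)⁻¹ = e * f ^ t.val → ρ g = !![1, 0; t, 1] := by
    intro g hg t h
    have h0 : Tl g (Pi.single (0 : Fin 2) 1) = ![1, t] := hinjθ (by
      rw [hTl, hθ0, h]; simp [θ, ZMod.val_one])
    have h1 : Tl g (Pi.single (1 : Fin 2) 1) = ![0, 1] := hinjθ (by
      rw [hTl, hθ1, hfixB _ hg]; simp [θ, ZMod.val_one])
    ext i j
    rw [hρ]
    fin_cases j <;> fin_cases i <;> simp [h0, h1]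
  have hexA : ∀ a ∈ A, ∃ t : ZMod p, a * f * a⁻¹ = e ^ t.val * f := by
    intro a ha
    have h : ⁅f, a⁆⁻¹ ∈ Submonoid.powers e :=
      (isOfFinOrder_of_finite e).mem_powers_iff_mem_zpowers.mpr (by
        rw [zpowers_eq_of_card_prime hLA.1 he he1]
        exact inv_mem (Subgroup.commutator_mem_commutator hfV ha))
    obtain ⟨n, hn⟩ := h
    exact ⟨n, by rw [conj_eq_mul_commutator, ← hn, hpowmod hep]⟩
  have hexB : ∀ b ∈ B, ∃ t : ZMod p, b * e * b⁻¹ = e * f ^ t.val := by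
    intro b hb
    have h : ⁅e, b⁆⁻¹ ∈ Submonoid.powers f :=
      (isOfFinOrder_of_finite f).mem_powers_iff_mem_zpowers.mpr (by
        rw [zpowers_eq_of_card_prime hLB.1 hf hf1]
        exact inv_mem (Subgroup.commutator_mem_commutator heV hb))
    obtain ⟨n, hn⟩ := h
    refine ⟨n, ?_⟩
    rw [conj_eq_mul_commutator, ← hn, hpowmod hfp]
    exact elemAb_comm c.hV.1 (pow_mem hfV n) heV
  let D : Subgroup ↥(A ⊔ B) :=
    { carrier := {g | (ρ g).det = 1}
      one_mem' := by simp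
      mul_mem' := fun {g h} hg hh => by
        show (ρ (g * h)).det = 1
        rw [map_mul, Matrix.det_mul, (hg : (ρ g).det = 1), (hh : (ρ h).det = 1), mul_one]
      inv_mem' := fun {g} hg => by
        have h : (ρ g⁻¹).det * (ρ g).det = 1 := by
          rw [← Matrix.det_mul, ← map_mul, inv_mul_cancel, map_one, Matrix.det_one]
        rwa [(hg : (ρ g).det = 1), mul_one] at h }
  have hD : D = ⊤ := by
    rw [eq_top_iff, ← Subgroup.subgroupOf_self (H := A ⊔ B),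
      Subgroup.subgroupOf_sup le_sup_left le_sup_right]
    refine sup_le (fun g hg => ?_) fun g hg => ?_
    · obtain ⟨t, ht⟩ := hexA _ hg
      show (ρ g).det = 1
      rw [hform g hg t ht, Matrix.det_fin_two]
      simp
    · obtain ⟨t, ht⟩ := hexB _ hg
      show (ρ g).det = 1
      rw [hform' g hg t ht, Matrix.det_fin_two]
      simp
  have hdet : ∀ g, (ρ g).det = 1 := fun g => (hD ▸ Subgroup.mem_top g : g ∈ D)
  let σ : ↥(A ⊔ B) →* Matrix.SpecialLinearGroup (Fin 2) (ZMod p) :=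
    { toFun := fun g => ⟨ρ g, hdet g⟩
      map_one' := Subtype.ext (map_one ρ)
      map_mul' := fun g h => Subtype.ext (map_mul ρ g h) }
  refine ⟨MulEquiv.ofBijective σ ⟨(injective_iff_map_eq_one σ).mpr fun g hg => ?_, ?_⟩⟩
  · have h1 : LinearMap.toMatrix' (Tl g) = 1 := congrArg Subtype.val hg
    have h2 : Tl g = LinearMap.id := LinearMap.toMatrix'.injective
      (h1.trans LinearMap.toMatrix'_id.symm)
    refine Subtype.ext (o.eq_one_of_fix_plane c g.2 ?_)
    rw [Subgroup.mem_centralizer_iff]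
    intro x hx
    obtain ⟨v, hv⟩ := hbij.2 ⟨x, hx⟩
    have hvx : θ v = x := congrArg Subtype.val hv
    have h3 := hTl g v
    rw [h2, LinearMap.id_apply, hvx] at h3
    exact eq_mul_inv_iff_mul_eq.mp h3
  · rw [← MonoidHom.range_eq_top]
    refine LinearGroup.eq_top_of_transvection_mem fun i j hij t => ?_
    have hfA : f ∉ Subgroup.centralizer (A : Set G) := fun h =>
      hf1 (Subgroup.mem_bot.mp ((o.symm.centre_inf_fixed c).le ⟨hf, h⟩))
    have heB : e ∉ Subgroup.centralizer (B : Set G) := fun h =>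
      he1 (Subgroup.mem_bot.mp ((o.centre_inf_fixed c).le ⟨he, h⟩))
    fin_cases i <;> fin_cases j
    · exact absurd rfl hij
    · obtain ⟨a, ha, hae⟩ := shift c o.hA hfV hfA (pow_mem he t.val)
      rw [elemAb_comm c.hV.1 hfV (pow_mem heV _)] at hae
      refine ⟨⟨a, Subgroup.mem_sup_left ha⟩, Subtype.ext ?_⟩
      show ρ _ = _
      rw [hform _ ha t hae]
      ext k l
      fin_cases k <;> fin_cases l <;>
        simp [Matrix.SpecialLinearGroup.transvection, Matrix.transvection, Matrix.single]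
    · obtain ⟨b, hb, hbe⟩ := shift c o.hB heV heB (pow_mem hf t.val)
      refine ⟨⟨b, Subgroup.mem_sup_right hb⟩, Subtype.ext ?_⟩
      show ρ _ = _
      rw [hform' _ hb t hbe]
      ext k l
      fin_cases k <;> fin_cases l <;>
        simp [Matrix.SpecialLinearGroup.transvection, Matrix.transvection, Matrix.single]
    · exact absurd rfl hij

end IsOpp

section QConj

variable {A₀ A B C : Subgroup G}

theorem inQA_self : InQA p H A₀ A₀ := ⟨1, one_mem _, by ext; simp⟩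

theorem InQA.trans_of (h₀ : IsTrans p V H A₀) (h : InQA p H A₀ C) : IsTrans p V H C := by
  obtain ⟨q, hq, rfl⟩ := h
  exact c.trans_map h₀ (OffCtx.q_le hq)

theorem InQA.le_sup (h₀ : IsTrans p V H A₀) (h : InQA p H A₀ C) : C ≤ qOf p H ⊔ A₀ := by
  obtain ⟨q, hq, rfl⟩ := h
  rintro _ ⟨a, ha, rfl⟩
  exact mul_mem (mul_mem (Subgroup.mem_sup_left hq) (Subgroup.mem_sup_right ha))
    (inv_mem (Subgroup.mem_sup_left hq))

theorem InQA.sup_eq (h₀ : IsTrans p V H A₀) (h : InQA p H A₀ C) :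
    qOf p H ⊔ C = qOf p H ⊔ A₀ := by
  refine le_antisymm (sup_le le_sup_left (h.le_sup c h₀)) (sup_le le_sup_left ?_)
  obtain ⟨q, hq, rfl⟩ := h
  intro a ha
  have : a = q⁻¹ * (q * a * q⁻¹) * q := by group
  rw [this]
  exact mul_mem (mul_mem (inv_mem (Subgroup.mem_sup_left hq))
    (Subgroup.mem_sup_right ⟨a, ha, rfl⟩)) (Subgroup.mem_sup_left hq)

theorem InQA.map_conj (h₀ : IsTrans p V H A₀) (h : InQA p H A₀ C) {g : G}
    (hg : g ∈ qOf p H ⊔ A₀) : InQA p H A₀ (C.map (MulAut.conj g).toMonoidHom) := by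
  obtain ⟨r, hr, rfl⟩ := h
  rw [map_map_conj]
  have hg' : g * r ∈ ((qOf p H ⊔ A₀ : Subgroup G) : Set G) := mul_mem hg (Subgroup.mem_sup_left hr)
  rw [Subgroup.coe_mul_of_right_le_normalizer_left _ _
    (h₀.le.trans OffCtx.le_normalizer_q)] at hg'
  obtain ⟨q, hq, a, ha, hqa⟩ := hg'
  refine ⟨q, hq, ?_⟩
  rw [← hqa, ← map_map_conj, map_conj_eq_of_mem_normalizer (Subgroup.le_normalizer ha)]

theorem opp_of_inQA (h₀ : IsTrans p V H A₀) (hA : InQA p H A₀ A) (hB : InQA p H A₀ B)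
    (hne : A ≠ B) : IsOpp p V H A B := by
  refine ⟨hA.trans_of c h₀, hB.trans_of c h₀, ?_, ?_⟩
  · exact moves_centre_of_ne c (hA.trans_of c h₀) (hB.trans_of c h₀)
      ((hB.le_sup c h₀).trans (hA.sup_eq c h₀).ge) (Ne.symm hne)
  · exact moves_centre_of_ne c (hB.trans_of c h₀) (hA.trans_of c h₀)
      ((hA.le_sup c h₀).trans (hB.sup_eq c h₀).ge) hne

/-- All `Q`-conjugates lie in the group generated by two of them. -/
theorem inQA_le_pair (h₀ : IsTrans p V H A₀) (hA : InQA p H A₀ A) (hB : InQA p H A₀ B)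
    (hC : InQA p H A₀ C) (hne : A ≠ B) : C ≤ A ⊔ B := by
  by_cases hCB : C = B
  · exact hCB ▸ le_sup_right
  have o := opp_of_inQA c h₀ hA hB hne
  have oCB := opp_of_inQA c h₀ hC hB hCB
  have hC' := hC.trans_of c h₀
  obtain ⟨z, hz, hz1⟩ := (⁅V, C⁆).bot_or_exists_ne_one.resolve_left fun h => by
    have := (centre_spec c hC').1; rw [h, Subgroup.card_bot] at this; exact hp.out.ne_one this.symm
  have hzV := centre_le_V c hC' hz
  have hzB : z ∉ Subgroup.centralizer (B : Set G) := fun h =>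
    hz1 (Subgroup.mem_bot.mp ((oCB.centre_inf_fixed c).le ⟨hz, h⟩))
  have hn : ⁅V, B⁆ ≤ Subgroup.normalizer ((V ⊓ Subgroup.centralizer (A : Set G) : Subgroup G) : Set G) :=
    ((centre_le_V c o.hB).trans (le_centralizer_self c.hV.1)).trans
      ((Subgroup.centralizer_le inf_le_left).trans (Subgroup.centralizer_le_normalizer _))
  have hdec : V = (V ⊓ Subgroup.centralizer (A : Set G)) ⊔ ⁅V, B⁆ := by
    refine (Subgroup.eq_of_le_of_card_ge (sup_le inf_le_left (centre_le_V c o.hB)) ?_).symm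
    have h := card_sup_mul_card_inf hn
    have hbot : (V ⊓ Subgroup.centralizer (A : Set G)) ⊓ ⁅V, B⁆ = ⊥ :=
      le_bot_iff.mp ((le_inf inf_le_right (inf_le_left.trans inf_le_right)).trans
        (o.symm.centre_inf_fixed c).le)
    rw [hbot, Subgroup.card_bot, mul_one, (centre_spec c o.hB).1, mul_comm, o.hA.fixed] at h
    rw [h]
  have hz' : z ∈ (((V ⊓ Subgroup.centralizer (A : Set G)) ⊔ ⁅V, B⁆ : Subgroup G) : Set G) :=
    hdec ▸ hzV
  rw [Subgroup.coe_mul_of_right_le_normalizer_left _ _ hn] at hz'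
  obtain ⟨k, hk, w, hw, rfl⟩ := hz'
  obtain ⟨b, hb, hbe⟩ := shift c o.hB hzV hzB (inv_mem hw)
  rw [mul_inv_cancel_right] at hbe
  -- so `b⁻¹ A b` fixes the centre of `C`
  set A' := A.map (MulAut.conj b⁻¹).toMonoidHom with hA'
  have hA'Q : InQA p H A₀ A' := hA.map_conj c h₀ (inv_mem (hB.le_sup c h₀ hb))
  have hfix : k * w ∈ Subgroup.centralizer (A' : Set G) := by
    rw [Subgroup.mem_centralizer_iff]
    rintro _ ⟨a, ha, rfl⟩
    have h1 := Subgroup.mem_centralizer_iff.mp hk.2 a ha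
    rw [← hbe] at h1
    show b⁻¹ * a * b⁻¹⁻¹ * (k * w) = k * w * (b⁻¹ * a * b⁻¹⁻¹)
    calc b⁻¹ * a * b⁻¹⁻¹ * (k * w) = b⁻¹ * (a * (b * (k * w) * b⁻¹)) * b := by group
      _ = b⁻¹ * ((b * (k * w) * b⁻¹) * a) * b := by rw [h1]
      _ = _ := by group
  by_cases hCA : C = A'
  · rw [hCA]
    rintro _ ⟨a, ha, rfl⟩
    exact mul_mem (mul_mem (inv_mem (Subgroup.mem_sup_right hb)) (Subgroup.mem_sup_left ha))
      (inv_mem (inv_mem (Subgroup.mem_sup_right hb)))
  · exact absurd ((opp_of_inQA c h₀ hC hA'Q hCA).centre_inf_fixed c)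
      fun h => hz1 (Subgroup.mem_bot.mp (h.le ⟨hz, hfix⟩))

theorem inQA_map_le_eOf (h : InQA p H A₀ C) : C ≤ eOf p H A₀ := by
  obtain ⟨q, hq, rfl⟩ := h
  rintro _ ⟨a, ha, rfl⟩
  show q * a * q⁻¹ ∈ _
  have : q * a * q⁻¹ = ⁅q, a⁆ * a := by simp [commutatorElement_def]
  rw [this]
  exact mul_mem (Subgroup.mem_sup_left (Subgroup.commutator_mem_commutator hq ha))
    (Subgroup.mem_sup_right ha)

theorem eOf_eq_pair (h₀ : IsTrans p V H A₀) (hA : InQA p H A₀ A) (hB : InQA p H A₀ B)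
    (hne : A ≠ B) : eOf p H A₀ = A ⊔ B := by
  refine le_antisymm (sup_le ?_ (inQA_le_pair c h₀ hA hB (inQA_self c) hne))
    (sup_le (inQA_map_le_eOf c hA) (inQA_map_le_eOf c hB))
  rw [Subgroup.commutator_le]
  intro q hq a ha
  have h1 : q * a * q⁻¹ ∈ A ⊔ B :=
    inQA_le_pair c h₀ hA hB (C := A₀.map (MulAut.conj q).toMonoidHom) ⟨q, hq, rfl⟩ hne ⟨a, ha, rfl⟩
  have h2 : a⁻¹ ∈ A ⊔ B := inv_mem (inQA_le_pair c h₀ hA hB (inQA_self c) hne ha)
  exact mul_mem h1 h2

theorem exists_moved (h₀ : IsTrans p V H A₀) :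
    ∃ x ∈ qOf p H, x ∉ Subgroup.centralizer (A₀ : Set G) := by
  by_contra hcon
  push Not at hcon
  refine c.trans_ne_bot h₀ ((inf_eq_left.mpr (Subgroup.le_centralizer_iff.mp hcon)).symm.trans
    (c.inf_centralizer_q h₀.le
      (isPGroup_of_isElementaryAbelian (isElementaryAbelian_of_card_prime h₀.card))))

theorem conj_ne_of_moved (h₀ : IsTrans p V H A₀) {x : G} (hx : x ∈ qOf p H)
    (hxA : x ∉ Subgroup.centralizer (A₀ : Set G)) :
    A₀ ≠ A₀.map (MulAut.conj x).toMonoidHom := by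
  intro he
  refine hxA (Subgroup.mem_centralizer_iff.mpr fun a ha => ?_)
  have h1 : ⁅x, a⁆ ∈ A₀ ⊓ qOf p H := by
    refine ⟨?_, ?_⟩
    · show x * a * x⁻¹ * a⁻¹ ∈ A₀
      refine mul_mem ?_ (inv_mem ha)
      rw [he]; exact ⟨a, ha, rfl⟩
    · exact commutator_le_of_le_normalizer (h₀.le.trans OffCtx.le_normalizer_q)
        (Subgroup.commutator_mem_commutator hx ha)
  rw [inf_eq_bot_of_isPGroup_of_coprime (isPGroup_of_isElementaryAbelian
    (isElementaryAbelian_of_card_prime h₀.card)) OffCtx.q_coprime, Subgroup.mem_bot,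
    commutatorElement_eq_one_iff_mul_comm] at h1
  exact h1.symm

theorem eOf_spec (h₀ : IsTrans p V H A₀) :
    ∃ B, InQA p H A₀ B ∧ IsOpp p V H A₀ B ∧ eOf p H A₀ = A₀ ⊔ B := by
  obtain ⟨x, hx, hxA⟩ := exists_moved c h₀
  have hB : InQA p H A₀ (A₀.map (MulAut.conj x).toMonoidHom) := ⟨x, hx, rfl⟩
  have hne := conj_ne_of_moved c h₀ hx hxA
  exact ⟨_, hB, opp_of_inQA c h₀ (inQA_self c) hB hne, eOf_eq_pair c h₀ (inQA_self c) hB hne⟩

end QConj

end Cfsg.Agent.Thompson.Off
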