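import Mathlib
import Cfsg.Prelude.Def_PLocal
import Cfsg.Agent.Lib.Thompson.Offender.Pair
import Cfsg.Agent.Lib.Thompson.QuadSection
import Cfsg.Agent.Lib.LinearGroup.Generation
import Cfsg.Agent.Lib.LinearGroup.Card

/-!
The structure of a faithful group generated by best offenders with self-centralizing `p'`-core.
-/

set_option autoImplicit false
set_option linter.unusedVariables false
set_option linter.style.haveILetI false
set_option linter.unusedSectionVars false

namespace Cfsg.Agent.Thompson.Off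

open Cfsg
open scoped commutatorElement MatrixGroups

variable {G : Type*} [Group G] [Finite G] {p : ℕ} [hp : Fact p.Prime] {V H : Subgroup G}
  (c : OffCtx p V H)
include c

section One

variable {A : Subgroup G} (h₀ : IsTrans p V H A)
include h₀

theorem eOf_le : eOf p H A ≤ H :=
  sup_le ((Subgroup.commutator_mono OffCtx.q_le h₀.le).trans
    (Subgroup.commutator_le.mpr fun x hx y hy =>
      H.mul_mem (H.mul_mem (H.mul_mem hx hy) (H.inv_mem hx)) (H.inv_mem hy))) h₀.le

theorem commutator_q_le : ⁅qOf p H, A⁆ ≤ qOf p H :=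
  commutator_le_of_le_normalizer (h₀.le.trans OffCtx.le_normalizer_q)

theorem eOf_le_q_sup : eOf p H A ≤ qOf p H ⊔ A :=
  sup_le ((commutator_q_le c h₀).trans le_sup_left) le_sup_right

theorem q_le_normalizer_eOf : qOf p H ≤ Subgroup.normalizer (eOf p H A : Set G) := by
  intro q hq
  refine mem_normalizer_of_map_conj_le ?_
  rw [eOf, Subgroup.map_sup]
  refine sup_le ?_ ?_
  · refine le_trans ?_ le_sup_left
    rintro _ ⟨z, hz, rfl⟩
    exact (Subgroup.mem_normalizer_iff.mp
      (Coprime.le_normalizer_commutator_left A (qOf p H) hq) z).mp hz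
  · exact inQA_map_le_eOf c ⟨q, hq, rfl⟩

theorem eOf_nonempty_equiv :
    Nonempty (↥(eOf p H A) ≃* Matrix.SpecialLinearGroup (Fin 2) (ZMod p)) := by
  obtain ⟨B, -, o, he⟩ := eOf_spec c h₀
  rw [he]
  exact o.nonempty_equiv_SL c

theorem card_commutator_eOf : Nat.card ↥⁅V, eOf p H A⁆ = p ^ 2 := by
  obtain ⟨B, -, o, he⟩ := eOf_spec c h₀
  rw [he, o.commutator_eq c]
  exact o.card_plane c

theorem eOf_plane_inf :
    ⁅V, eOf p H A⁆ ⊓ (V ⊓ Subgroup.centralizer (eOf p H A : Set G)) = ⊥ := by
  obtain ⟨B, -, o, he⟩ := eOf_spec c h₀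
  rw [he, o.commutator_eq c]
  exact o.plane_inf_fixed c

theorem eOf_plane_sup :
    ⁅V, eOf p H A⁆ ⊔ (V ⊓ Subgroup.centralizer (eOf p H A : Set G)) = V := by
  obtain ⟨B, -, o, he⟩ := eOf_spec c h₀
  rw [he, o.commutator_eq c]
  exact o.plane_sup_fixed c

theorem eOf_faithful :
    eOf p H A ⊓ Subgroup.centralizer ((⁅V, eOf p H A⁆ : Subgroup G) : Set G) = ⊥ := by
  obtain ⟨B, -, o, he⟩ := eOf_spec c h₀
  rw [he, o.commutator_eq c]
  exact le_bot_iff.mp fun g hg => Subgroup.mem_bot.mpr (o.eq_one_of_fix_plane c hg.1 hg.2)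

theorem commutator_q_inf : ⁅qOf p H, A⁆ ⊓ A = ⊥ := by
  rw [inf_comm]
  exact le_bot_iff.mp ((inf_le_inf_left _ (commutator_q_le c h₀)).trans
    (inf_eq_bot_of_isPGroup_of_coprime (isPGroup_of_isElementaryAbelian
      (isElementaryAbelian_of_card_prime h₀.card)) OffCtx.q_coprime).le)

theorem card_eOf : Nat.card ↥⁅qOf p H, A⁆ * p = Nat.card ↥(eOf p H A) := by
  have h := card_sup_mul_card_inf (H := ⁅qOf p H, A⁆) (K := A)
    (Coprime.le_normalizer_commutator_right A (qOf p H))
  rw [commutator_q_inf c h₀, Subgroup.card_bot, mul_one, h₀.card] at h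
  exact h.symm

/-- `p = 2` or `p = 3`. -/
theorem p_two_or_three : p = 2 ∨ p = 3 := by
  classical
  haveI : NeZero p := ⟨hp.out.ne_zero⟩
  by_contra hcon
  push Not at hcon
  have hne4 : p ≠ 4 := fun h => by
    have := hp.out
    rw [h] at this
    norm_num at this
  have h5 : 5 ≤ p := by have := hp.out.two_le; omega
  obtain ⟨φ⟩ := eOf_nonempty_equiv c h₀
  have hperf : commutator (Matrix.SpecialLinearGroup (Fin 2) (ZMod p)) = ⊤ := by
    refine LinearGroup.commutator_SL_eq_top' fun _ => ⟨(2 : ℕ), ?_, ?_⟩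
    · rw [Ne, ZMod.natCast_eq_zero_iff]
      intro h
      have := Nat.le_of_dvd (by norm_num) h
      omega
    · intro h
      have h3 : ((3 : ℕ) : ZMod p) = 0 := by
        push_cast at h ⊢
        linear_combination h
      rw [ZMod.natCast_eq_zero_iff] at h3
      have := Nat.le_of_dvd (by norm_num) h3
      omega
  set E := eOf p H A with hE
  set K : Subgroup E := (⁅qOf p H, A⁆).subgroupOf E with hK
  haveI : K.Normal := Subgroup.normal_subgroupOf_of_le_normalizer
    (sup_le Subgroup.le_normalizer (Coprime.le_normalizer_commutator_right A (qOf p H)))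
  have hcard : Nat.card (E ⧸ K) = p := by
    have h1 := Subgroup.card_eq_card_quotient_mul_card_subgroup K
    rw [card_subgroupOf_of_le le_sup_left, ← card_eOf c h₀, mul_comm] at h1
    exact (Nat.eq_of_mul_eq_mul_right Nat.card_pos h1).symm
  haveI := isCyclic_of_prime_card hcard
  have hle : commutator E ≤ K := by
    rw [commutator_def, Subgroup.commutator_le]
    intro x _ y _
    rw [← QuotientGroup.eq_one_iff]
    show QuotientGroup.mk' K ⁅x, y⁆ = 1
    rw [map_commutatorElement, commutatorElement_eq_one_iff_mul_comm]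
    letI := IsCyclic.commGroup (α := E ⧸ K)
    exact mul_comm _ _
  have htop : commutator E = ⊤ := by
    apply Subgroup.map_injective (f := φ.toMonoidHom) φ.injective
    rw [commutator_def, Subgroup.map_commutator, Subgroup.map_top_of_surjective _ φ.surjective]
    exact hperf
  rw [htop, top_le_iff] at hle
  rw [← Subgroup.index_eq_one, Subgroup.index_eq_card, hcard] at hle
  exact hp.out.ne_one hle

theorem commutator_q_spec :
    (p = 2 ∧ IsPGroup 3 ↥⁅qOf p H, A⁆) ∨
      (p = 3 ∧ IsPGroup 2 ↥⁅qOf p H, A⁆ ∧ ¬ IsMulCommutative ↥⁅qOf p H, A⁆) := by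
  classical
  haveI : NeZero p := ⟨hp.out.ne_zero⟩
  obtain ⟨φ⟩ := eOf_nonempty_equiv c h₀
  have hc := card_eOf c h₀
  rw [Nat.card_congr φ.toEquiv, LinearGroup.card_SL_two, Nat.card_zmod] at hc
  rcases p_two_or_three c h₀ with rfl | rfl
  · left
    norm_num at hc
    exact ⟨rfl, IsPGroup.of_card (n := 1) (by omega)⟩
  · right
    norm_num at hc
    refine ⟨rfl, IsPGroup.of_card (n := 3) (by omega), fun hab => ?_⟩
    obtain ⟨x, y, hxy, h2⟩ := exists_quaternion_pair (p := 3) (by norm_num)
    set E := eOf 3 H A with hE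
    set K : Subgroup E := (⁅qOf 3 H, A⁆).subgroupOf E with hK
    haveI : K.Normal := Subgroup.normal_subgroupOf_of_le_normalizer
      (sup_le Subgroup.le_normalizer (Coprime.le_normalizer_commutator_right A (qOf 3 H)))
    have hcard : K.index = 3 := by
      have h1 := Subgroup.card_mul_index K
      rw [card_subgroupOf_of_le le_sup_left, ← card_eOf c h₀] at h1
      exact Nat.eq_of_mul_eq_mul_left Nat.card_pos h1
    have hmem : ∀ z ∈ Subgroup.closure ({x, y} : Set SL(2, ZMod 3)), φ.symm z ∈ K := by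
      intro z hz
      obtain ⟨k, hk⟩ := h2 ⟨z, hz⟩
      have hk' : φ.symm z ^ 2 ^ k = 1 := by
        rw [← map_pow, show z ^ 2 ^ k = 1 from congrArg Subtype.val hk, map_one]
      have h3 : φ.symm z ^ 3 ∈ K := by have := K.pow_index_mem (φ.symm z); rwa [hcard] at this
      rw [← QuotientGroup.eq_one_iff]
      exact pow_eq_one_iff_of_coprime_aux (m := 2 ^ k) (n := 3) (Nat.Coprime.pow_right k (by norm_num))
        (by rw [← QuotientGroup.mk_pow, (QuotientGroup.eq_one_iff _).mpr h3])
        (by rw [← QuotientGroup.mk_pow, hk', QuotientGroup.mk_one])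
    apply hxy
    apply φ.symm.injective
    rw [map_mul, map_mul]
    exact Subtype.ext (elemAb_comm hab (hmem x (Subgroup.subset_closure (Or.inl rfl)))
      (hmem y (Subgroup.subset_closure (Or.inr rfl))))

/-- Every nontrivial element of the plane is the centre of some conjugate in `[Q, A] A`. -/
theorem exists_conj_with_centre {z : G} (hz : z ∈ ⁅V, eOf p H A⁆) :
    ∃ C, InQA p H A C ∧ C ≤ eOf p H A ∧ z ∈ ⁅V, C⁆ := by
  obtain ⟨B, hB, o, he⟩ := eOf_spec c h₀
  rw [he, o.commutator_eq c] at hz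
  rcases o.exists_conj_centre c hz with h | ⟨b, hb, h⟩
  · exact ⟨B, hB, inQA_map_le_eOf c hB, h⟩
  · have hq := (inQA_self c).map_conj c h₀ (hB.le_sup c h₀ hb)
    exact ⟨_, hq, inQA_map_le_eOf c hq, h⟩

theorem q_le_normalizer_plane :
    qOf p H ≤ Subgroup.normalizer ((⁅V, eOf p H A⁆ : Subgroup G) : Set G) := fun q hq => by
  refine mem_normalizer_of_map_conj_le (le_of_eq ?_)
  rw [map_conj_commutator V (c.hHV (OffCtx.q_le hq)),
    map_conj_eq_of_mem_normalizer (q_le_normalizer_eOf c h₀ hq)]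

/-- `Q` fixes no line of the plane. -/
theorem eq_bot_or_eq_of_q_invariant {U : Subgroup G} (hU : U ≤ ⁅V, eOf p H A⁆)
    (hn : qOf p H ≤ Subgroup.normalizer (U : Set G)) : U = ⊥ ∨ U = ⁅V, eOf p H A⁆ := by
  have hd := Subgroup.card_dvd_of_le hU
  rw [card_commutator_eOf c h₀] at hd
  obtain ⟨k, hk, hk'⟩ := (Nat.dvd_prime_pow hp.out).mp hd
  interval_cases k
  · exact Or.inl (Subgroup.card_eq_one.mp (by simpa using hk'))
  · exfalso
    rw [pow_one] at hk'
    obtain ⟨z, hz, hz1⟩ := U.bot_or_exists_ne_one.resolve_left fun h => by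
      rw [h, Subgroup.card_bot] at hk'; exact hp.out.ne_one hk'.symm
    obtain ⟨C, hC, -, hzC⟩ := exists_conj_with_centre c h₀ (hU hz)
    have hC' := hC.trans_of c h₀
    have hUC : ⁅V, C⁆ = U := by
      rw [← zpowers_eq_of_card_prime (centre_spec c hC').1 hzC hz1,
        zpowers_eq_of_card_prime hk' hz hz1]
    obtain ⟨x, hx, hxC⟩ := exists_moved c hC'
    have hne := conj_ne_of_moved c hC' hx hxC
    refine (opp_of_inQA c hC' (inQA_self c) ⟨x, hx, rfl⟩ hne).mA ?_
    have e : ⁅V, C⁆ = ⁅V, C.map (MulAut.conj x).toMonoidHom⁆ := by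
      rw [← map_conj_commutator V (c.hHV (OffCtx.q_le hx)), hUC,
        map_conj_eq_of_mem_normalizer (hn hx)]
    rw [e]
    exact (centre_spec c (c.trans_map hC' (OffCtx.q_le hx))).2
  · exact Or.inr (Subgroup.eq_of_le_of_card_ge hU (by rw [card_commutator_eOf c h₀, hk']))

theorem fixed_commutator_q :
    V ⊓ Subgroup.centralizer ((⁅qOf p H, A⁆ : Subgroup G) : Set G) =
      V ⊓ Subgroup.centralizer (eOf p H A : Set G) := by
  set E := eOf p H A with hE
  set W := ⁅V, E⁆ with hW
  set K := V ⊓ Subgroup.centralizer (E : Set G) with hK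
  refine le_antisymm ?_ (inf_le_inf_left _ (Subgroup.centralizer_le (SetLike.coe_subset_coe.mpr le_sup_left)))
  have hWV : W ≤ V := commutator_le_of_le_normalizer ((eOf_le c h₀).trans c.hHV)
  intro v hv
  have hn : K ≤ Subgroup.normalizer (W : Set G) :=
    (inf_le_left.trans (le_centralizer_self c.hV.1)).trans
      ((Subgroup.centralizer_le hWV).trans (Subgroup.centralizer_le_normalizer _))
  have hv' : v ∈ ((W ⊔ K : Subgroup G) : Set G) := by
    rw [SetLike.mem_coe, hW, hK, hE, eOf_plane_sup c h₀]; exact hv.1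
  rw [Subgroup.coe_mul_of_right_le_normalizer_left _ _ hn] at hv'
  obtain ⟨w, hw, k, hk, rfl⟩ := hv'
  have hk' : k ∈ V ⊓ Subgroup.centralizer ((⁅qOf p H, A⁆ : Subgroup G) : Set G) :=
    inf_le_inf_left _ (Subgroup.centralizer_le (SetLike.coe_subset_coe.mpr le_sup_left)) hk
  have hw' : w ∈ W ⊓ Subgroup.centralizer ((⁅qOf p H, A⁆ : Subgroup G) : Set G) := by
    refine ⟨hw, ?_⟩
    have h1 : w * k ∈ Subgroup.centralizer ((⁅qOf p H, A⁆ : Subgroup G) : Set G) := hv.2
    have h2 : k ∈ Subgroup.centralizer ((⁅qOf p H, A⁆ : Subgroup G) : Set G) := hk'.2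
    have := mul_mem h1 (inv_mem h2)
    rwa [mul_inv_cancel_right] at this
  rcases eq_bot_or_eq_of_q_invariant c h₀ (inf_le_left : W ⊓ Subgroup.centralizer
      ((⁅qOf p H, A⁆ : Subgroup G) : Set G) ≤ W)
    (Coprime.le_normalizer_inf (q_le_normalizer_plane c h₀)
      (Coprime.le_normalizer_centralizer (Coprime.le_normalizer_commutator_left A (qOf p H)))) with
    h | h
  · rw [h, Subgroup.mem_bot] at hw'
    subst hw'
    simpa using hk
  · exfalso
    have hb : ⁅qOf p H, A⁆ = ⊥ := le_bot_iff.mp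
      ((le_inf (le_sup_left : ⁅qOf p H, A⁆ ≤ E)
        (Subgroup.le_centralizer_iff.mp (inf_eq_left.mp h))).trans (eOf_faithful c h₀).le)
    refine c.trans_ne_bot h₀ (le_bot_iff.mp ((le_inf le_rfl ?_).trans
      (c.inf_centralizer_q h₀.le (isPGroup_of_isElementaryAbelian
        (isElementaryAbelian_of_card_prime h₀.card))).le))
    exact Subgroup.le_centralizer_iff.mp (Subgroup.commutator_eq_bot_iff_le_centralizer.mp hb)

end One

section Two

variable {A B : Subgroup G} (hA : IsTrans p V H A) (hB : IsTrans p V H B)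
include hA hB

theorem fixed_eq_centre_sup (hcen : ⁅V, B⁆ ≤ ⁅V, eOf p H A⁆)
    (hK : V ⊓ Subgroup.centralizer (eOf p H A : Set G) ≤ Subgroup.centralizer (B : Set G)) :
    V ⊓ Subgroup.centralizer (B : Set G) =
      ⁅V, B⁆ ⊔ (V ⊓ Subgroup.centralizer (eOf p H A : Set G)) := by
  set W := ⁅V, eOf p H A⁆ with hW
  set K := V ⊓ Subgroup.centralizer (eOf p H A : Set G) with hKdef
  refine (Subgroup.eq_of_le_of_card_ge
    (sup_le (centre_le_fixed c hB) (le_inf inf_le_left hK)) ?_).symm
  have hWV : W ≤ V := commutator_le_of_le_normalizer ((eOf_le c hA).trans c.hHV)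
  have hn : ∀ X : Subgroup G, X ≤ V → K ≤ Subgroup.normalizer (X : Set G) := fun X hX =>
    (inf_le_left.trans (le_centralizer_self c.hV.1)).trans
      ((Subgroup.centralizer_le hX).trans (Subgroup.centralizer_le_normalizer _))
  have h1 := card_sup_mul_card_inf (hn _ (centre_le_V c hB))
  have hb : ⁅V, B⁆ ⊓ K = ⊥ :=
    le_bot_iff.mp ((inf_le_inf_right _ hcen).trans (eOf_plane_inf c hA).le)
  rw [hb, Subgroup.card_bot, mul_one, (centre_spec c hB).1] at h1
  have h2 := card_sup_mul_card_inf (hn W hWV)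
  rw [hW, hKdef, eOf_plane_sup c hA, eOf_plane_inf c hA, Subgroup.card_bot, mul_one,
    card_commutator_eOf c hA] at h2
  rw [h1]
  have h3 := hB.fixed
  rw [h2] at h3
  exact le_of_eq (Nat.eq_of_mul_eq_mul_left hp.out.pos (h3.trans (by ring)))

theorem le_eOf_of_centre (hcen : ⁅V, B⁆ ≤ ⁅V, eOf p H A⁆)
    (hK : V ⊓ Subgroup.centralizer (eOf p H A : Set G) ≤ Subgroup.centralizer (B : Set G)) :
    B ≤ eOf p H A := by
  obtain ⟨z, hz, hz1⟩ := (⁅V, B⁆).bot_or_exists_ne_one.resolve_left (c.trans_moves hB)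
  obtain ⟨C, hC, hCE, hzC⟩ := exists_conj_with_centre c hA (hcen hz)
  have hC' := hC.trans_of c hA
  have hL : ⁅V, C⁆ = ⁅V, B⁆ := by
    rw [← zpowers_eq_of_card_prime (centre_spec c hC').1 hzC hz1,
      zpowers_eq_of_card_prime (centre_spec c hB).1 hz hz1]
  have hKC : V ⊓ Subgroup.centralizer (eOf p H A : Set G) ≤ Subgroup.centralizer (C : Set G) :=
    inf_le_right.trans (Subgroup.centralizer_le hCE)
  have hKeq : V ⊓ Subgroup.centralizer (C : Set G) = V ⊓ Subgroup.centralizer (B : Set G) := by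
    rw [fixed_eq_centre_sup c hA hC' (hL.le.trans hcen) hKC, fixed_eq_centre_sup c hA hB hcen hK,
      hL]
  obtain ⟨w, hw, hwn⟩ : ∃ w ∈ V, w ∉ Subgroup.centralizer (B : Set G) := by
    by_contra hcon
    push Not at hcon
    exact c.trans_moves hB (Subgroup.commutator_eq_bot_iff_le_centralizer.mpr hcon)
  have hwC : w ∉ Subgroup.centralizer (C : Set G) := fun h => hwn (hKeq.le ⟨hw, h⟩).2
  intro b hb
  have hmem : ⁅w, b⁆⁻¹ ∈ ⁅V, C⁆ := hL ▸ inv_mem (Subgroup.commutator_mem_commutator hw hb)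
  obtain ⟨a', ha', hae⟩ := shift c hC' hw hwC hmem
  have hbe : b * w * b⁻¹ = w * ⁅w, b⁆⁻¹ := by
    rw [conj_eq_mul_commutator]
    exact elemAb_comm c.hV.1 (centre_le_V c hC' hmem) hw
  have hwfix : a'⁻¹ * b * w = w * (a'⁻¹ * b) := by
    calc a'⁻¹ * b * w = a'⁻¹ * (b * w * b⁻¹) * b := by group
      _ = a'⁻¹ * (a' * w * a'⁻¹) * b := by rw [hbe, hae]
      _ = w * (a'⁻¹ * b) := by group
  -- the fixed points of `C` and `w` generate `V`
  set K₀ := V ⊓ Subgroup.centralizer (C : Set G) with hK₀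
  have hV : K₀ ⊔ Subgroup.zpowers w = V := by
    refine Subgroup.eq_of_le_of_card_ge (sup_le inf_le_left (Subgroup.zpowers_le.mpr hw)) ?_
    rw [card_sup_zpowers c.hV inf_le_left hw fun h => hwC h.2, hC'.fixed]
  have hx1 : a'⁻¹ * b = 1 := by
    refine c.eq_one_of_centralizes (H.mul_mem (H.inv_mem (hC'.le ha')) (hB.le hb)) ?_
    suffices h : K₀ ⊔ Subgroup.zpowers w ≤ Subgroup.centralizer {a'⁻¹ * b} by
      rw [hV] at h
      exact Subgroup.mem_centralizer_iff.mpr fun v hv =>
        Subgroup.mem_centralizer_singleton_iff.mp (h hv)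
    refine sup_le (fun v hv => ?_) (Subgroup.zpowers_le.mpr ?_)
    · rw [Subgroup.mem_centralizer_singleton_iff]
      have h1 := Subgroup.mem_centralizer_iff.mp hv.2 a' ha'
      have h2 := Subgroup.mem_centralizer_iff.mp (hKeq.le hv).2 b hb
      calc v * (a'⁻¹ * b) = a'⁻¹ * (a' * v) * a'⁻¹ * b := by group
        _ = a'⁻¹ * (v * a') * a'⁻¹ * b := by rw [h1]
        _ = a'⁻¹ * (v * b) := by group
        _ = a'⁻¹ * b * v := by rw [← h2, mul_assoc]
    · rw [Subgroup.mem_centralizer_singleton_iff]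
      exact hwfix.symm
  exact hCE (inv_mul_eq_one.mp hx1 ▸ ha')

theorem eOf_mono_of_le (h : B ≤ eOf p H A) : eOf p H B ≤ eOf p H A := by
  refine sup_le ?_ h
  rw [Subgroup.commutator_le]
  intro q hq b hb
  exact mul_mem ((Subgroup.mem_normalizer_iff.mp (q_le_normalizer_eOf c hA hq) b).mp (h hb))
    (inv_mem (h hb))

/-- Two components coincide or commute with independent planes. -/
theorem pair_dichotomy :
    eOf p H A = eOf p H B ∨
      (⁅eOf p H A, eOf p H B⁆ = ⊥ ∧
        ⁅V, eOf p H B⁆ ≤ V ⊓ Subgroup.centralizer (eOf p H A : Set G)) := by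
  set WA := ⁅V, eOf p H A⁆ with hWA
  set WB := ⁅V, eOf p H B⁆ with hWB
  have hWAV : WA ≤ V := commutator_le_of_le_normalizer ((eOf_le c hA).trans c.hHV)
  have hWBV : WB ≤ V := commutator_le_of_le_normalizer ((eOf_le c hB).trans c.hHV)
  have hnA := q_le_normalizer_plane c hA
  have hnB := q_le_normalizer_plane c hB
  rcases eq_bot_or_eq_of_q_invariant c hA (inf_le_left : WA ⊓ WB ≤ WA)
    (Coprime.le_normalizer_inf hnA hnB) with h | h
  · right
    have key : ∀ (X Y : Subgroup G), IsTrans p V H X → IsTrans p V H Y →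
        ⁅V, eOf p H X⁆ ⊓ ⁅V, eOf p H Y⁆ = ⊥ →
        ⁅V, eOf p H X⁆ ≤ V ⊓ Subgroup.centralizer (eOf p H Y : Set G) := by
      intro X Y hX hY hd
      rw [← fixed_commutator_q c hY]
      have hXV : ⁅V, eOf p H X⁆ ≤ V :=
        commutator_le_of_le_normalizer ((eOf_le c hX).trans c.hHV)
      refine le_inf hXV (Subgroup.commutator_eq_bot_iff_le_centralizer.mp (le_bot_iff.mp ?_))
      refine le_trans (le_inf (commutator_le_of_le_normalizer
        ((commutator_q_le c hY).trans (q_le_normalizer_plane c hX))) ?_) hd.le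
      exact Subgroup.commutator_mono hXV le_sup_left
    have hAB := key A B hA hB h
    have hBA := key B A hB hA (by rw [inf_comm]; exact h)
    refine ⟨le_bot_iff.mp fun g hg => ?_, hBA⟩
    have h1 : ⁅⁅V, eOf p H A⁆, eOf p H B⁆ = ⊥ :=
      Subgroup.commutator_eq_bot_iff_le_centralizer.mpr (hAB.trans inf_le_right)
    have h2 : ⁅⁅eOf p H B, V⁆, eOf p H A⁆ = ⊥ := by
      rw [Subgroup.commutator_comm (eOf p H B) V]
      exact Subgroup.commutator_eq_bot_iff_le_centralizer.mpr (hBA.trans inf_le_right)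
    have h3 := Subgroup.commutator_commutator_eq_bot_of_rotate h2 h1
    refine Subgroup.mem_bot.mpr (c.eq_one_of_centralizes ?_
      (Subgroup.commutator_eq_bot_iff_le_centralizer.mp h3 hg))
    exact (Subgroup.commutator_mono (eOf_le c hA) (eOf_le c hB)).trans
      (Subgroup.commutator_le.mpr fun x hx y hy =>
        H.mul_mem (H.mul_mem (H.mul_mem hx hy) (H.inv_mem hx)) (H.inv_mem hy)) hg
  · left
    have heq : WA = WB := Subgroup.eq_of_le_of_card_ge (inf_eq_left.mp h)
      (by rw [hWA, hWB, card_commutator_eOf c hA, card_commutator_eOf c hB])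
    have kfix : ∀ (X Y : Subgroup G), IsTrans p V H X → IsTrans p V H Y →
        ⁅V, eOf p H X⁆ = ⁅V, eOf p H Y⁆ →
        V ⊓ Subgroup.centralizer (eOf p H X : Set G) ≤
          V ⊓ Subgroup.centralizer (eOf p H Y : Set G) := by
      intro X Y hX hY he
      rw [← fixed_commutator_q c hY]
      refine le_inf inf_le_left (Subgroup.commutator_eq_bot_iff_le_centralizer.mp (le_bot_iff.mp ?_))
      refine le_trans (le_inf ((Subgroup.commutator_mono inf_le_left le_sup_left).trans he.ge)
        (commutator_le_of_le_normalizer ?_)) (eOf_plane_inf c hX).le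
      exact (commutator_q_le c hY).trans (Coprime.le_normalizer_inf (OffCtx.q_le.trans c.hHV)
        (Coprime.le_normalizer_centralizer (q_le_normalizer_eOf c hX)))
    refine le_antisymm (eOf_mono_of_le c hB hA (le_eOf_of_centre c hB hA ?_ ?_))
      (eOf_mono_of_le c hA hB (le_eOf_of_centre c hA hB ?_ ?_))
    · exact (Subgroup.commutator_mono le_rfl le_sup_right).trans heq.le
    · exact ((kfix B A hB hA heq.symm).trans inf_le_right).trans
        (Subgroup.centralizer_le (SetLike.coe_subset_coe.mpr le_sup_right))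
    · exact (Subgroup.commutator_mono le_rfl le_sup_right).trans heq.ge
    · exact ((kfix A B hA hB heq).trans inf_le_right).trans (Subgroup.centralizer_le (SetLike.coe_subset_coe.mpr le_sup_right))

end Two

section Global

variable (hS3 : H = ⨆ A : {A : Subgroup G // A ≤ H ∧ IsBestOffenderOn p V A}, (A : Subgroup G))
include hS3

theorem le_of_trans_le {M : Subgroup G} (hM : ∀ T, IsTrans p V H T → T ≤ M) : H ≤ M := by
  conv_lhs => rw [hS3]
  refine iSup_le fun A => ?_
  obtain ⟨k, B, hB, -, hsup⟩ := c.decomposition (Nat.card (A : Subgroup G)) A le_rfl A.2.1 A.2.2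
  rw [← hsup]
  exact iSup_le fun i => hM _ (hB i).1

theorem exists_trans (hH1 : H ≠ ⊥) : ∃ T, IsTrans p V H T := by
  by_contra hcon
  push Not at hcon
  exact hH1 (le_bot_iff.mp (le_of_trans_le c hS3 fun T hT => absurd hT (hcon T)))

variable {A : Subgroup G} (hA : IsTrans p V H A)
include hA

theorem le_normalizer_eOf : H ≤ Subgroup.normalizer (eOf p H A : Set G) := by
  refine le_of_trans_le c hS3 fun T hT => ?_
  rcases pair_dichotomy c hA hT with h | h
  · exact ((le_sup_right : T ≤ eOf p H T).trans h.ge).trans Subgroup.le_normalizer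
  · exact ((le_sup_right : T ≤ eOf p H T).trans (Subgroup.le_centralizer_iff.mp
      (Subgroup.commutator_eq_bot_iff_le_centralizer.mp h.1))).trans
        (Subgroup.centralizer_le_normalizer _)

/-- The complement of a component. -/
theorem complement_spec :
    let D := H ⊓ Subgroup.centralizer ((⁅V, eOf p H A⁆ : Subgroup G) : Set G)
    ⁅eOf p H A, D⁆ = ⊥ ∧ eOf p H A ⊓ D = ⊥ ∧ eOf p H A ⊔ D = H ∧
      ⁅V, D⁆ ≤ V ⊓ Subgroup.centralizer (eOf p H A : Set G) := by
  intro D
  set E := eOf p H A with hE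
  have hEH : E ≤ H := eOf_le c hA
  set M : Subgroup G := ⨆ T : {T : Subgroup G // IsTrans p V H T ∧ ¬ T ≤ E}, (T : Subgroup G) with hM
  have hT : ∀ T : {T : Subgroup G // IsTrans p V H T ∧ ¬ T ≤ E},
      (T : Subgroup G) ≤ Subgroup.centralizer (E : Set G) ∧
        ⁅V, (T : Subgroup G)⁆ ≤ V ⊓ Subgroup.centralizer (E : Set G) ∧
        (T : Subgroup G) ≤ Subgroup.centralizer ((⁅V, E⁆ : Subgroup G) : Set G) := by
    rintro ⟨T, hT, hTE⟩
    rcases pair_dichotomy c hA hT with h | h
    · exact absurd ((le_sup_right : T ≤ eOf p H T).trans h.ge) hTE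
    · refine ⟨(le_sup_right : T ≤ eOf p H T).trans (Subgroup.le_centralizer_iff.mp
        (Subgroup.commutator_eq_bot_iff_le_centralizer.mp h.1)),
        (Subgroup.commutator_mono le_rfl le_sup_right).trans h.2, ?_⟩
      rcases pair_dichotomy c hT hA with h' | h'
      · exact absurd ((le_sup_right : T ≤ eOf p H T).trans h'.le) hTE
      · exact (le_sup_right : T ≤ eOf p H T).trans
          (Subgroup.le_centralizer_iff.mp (h'.2.trans inf_le_right))
  have hMC : M ≤ Subgroup.centralizer (E : Set G) := iSup_le fun T => (hT T).1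
  have hMD : M ≤ D := le_inf (iSup_le fun T => T.2.1.le) (iSup_le fun T => (hT T).2.2)
  have hED : E ⊓ D = ⊥ := le_bot_iff.mp
    ((inf_le_inf_left _ inf_le_right).trans (eOf_faithful c hA).le)
  have hHEM : H ≤ E ⊔ M := by
    refine le_of_trans_le c hS3 fun T hT' => ?_
    by_cases hTE : T ≤ E
    · exact hTE.trans le_sup_left
    · exact (le_iSup (fun T : {T : Subgroup G // IsTrans p V H T ∧ ¬ T ≤ E} => (T : Subgroup G))
        ⟨T, hT', hTE⟩).trans le_sup_right
  have hDM : D ≤ M := by
    intro d hd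
    have hd' : d ∈ ((E ⊔ M : Subgroup G) : Set G) := hHEM hd.1
    rw [Subgroup.coe_mul_of_right_le_normalizer_left _ _
      (hMC.trans (Subgroup.centralizer_le_normalizer _))] at hd'
    obtain ⟨e, he, m, hm, rfl⟩ := hd'
    have h1 : e ∈ E ⊓ D := by
      refine ⟨he, ?_⟩
      have := mul_mem hd (inv_mem (hMD hm))
      rwa [mul_inv_cancel_right] at this
    rw [hED, Subgroup.mem_bot] at h1
    simpa [h1] using hm
  refine ⟨?_, hED, le_antisymm (sup_le hEH inf_le_left) (hHEM.trans (sup_le_sup_left hMD _)), ?_⟩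
  · rw [Subgroup.commutator_eq_bot_iff_le_centralizer]
    exact Subgroup.le_centralizer_iff.mp (hDM.trans hMC)
  · rw [Subgroup.commutator_le]
    intro v hv d hd
    have hKn : H ≤ Subgroup.normalizer ((V ⊓ Subgroup.centralizer (E : Set G) : Subgroup G) : Set G) :=
      Coprime.le_normalizer_inf c.hHV
        (Coprime.le_normalizer_centralizer (le_normalizer_eOf c hS3 hA))
    let S : Subgroup G :=
      { carrier := {g | g ∈ H ∧ ∀ v ∈ V, ⁅v, g⁆ ∈ V ⊓ Subgroup.centralizer (E : Set G)}
        one_mem' := ⟨one_mem _, fun v _ => by simp⟩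
        mul_mem' := fun {a b} ha hb => ⟨mul_mem ha.1 hb.1, fun v hv => by
          rw [commutatorElement_mul_right_eq_mul_conj, mul_assoc, mul_assoc]
          refine mul_mem (ha.2 v hv) ?_
          rw [← mul_assoc]
          exact (Subgroup.mem_normalizer_iff.mp (hKn ha.1) _).mp (hb.2 v hv)⟩
        inv_mem' := fun {a} ha => ⟨inv_mem ha.1, fun v hv => by
          have h : ⁅v, a⁻¹⁆ = a⁻¹ * ⁅v, a⁆⁻¹ * a := by simp [commutatorElement_def, mul_assoc]
          rw [h]
          simpa using (Subgroup.mem_normalizer_iff.mp (hKn (inv_mem ha.1)) _).mp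
            (inv_mem (ha.2 v hv))⟩ }
    have hMS : M ≤ S := iSup_le fun T t ht => ⟨T.2.1.le ht, fun v hv =>
      (hT T).2.1 (Subgroup.commutator_mem_commutator hv ht)⟩
    exact (hMS (hDM hd)).2 v hv

end Global

section Decomp

variable (hS3 : H = ⨆ A : {A : Subgroup G // A ≤ H ∧ IsBestOffenderOn p V A}, (A : Subgroup G))
variable {ι : Type*} (f : ι → Subgroup G) (hfi : Function.Injective f)
  (hf : ∀ i, ∃ A, IsTrans p V H A ∧ f i = eOf p H A)
  (hall : ∀ A, IsTrans p V H A → ∃ i, f i = eOf p H A)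
include hfi hf

theorem other_spec {i j : ι} (hij : i ≠ j) :
    f j ≤ Subgroup.centralizer (f i : Set G) ∧
      ⁅V, f j⁆ ≤ V ⊓ Subgroup.centralizer (f i : Set G) := by
  obtain ⟨A, hA, hAi⟩ := hf i
  obtain ⟨B, hB, hBj⟩ := hf j
  rcases pair_dichotomy c hA hB with h | h
  · exact absurd (hfi (hAi.trans (h.trans hBj.symm))) hij
  · rw [hAi, hBj]
    exact ⟨Subgroup.le_centralizer_iff.mp
      (Subgroup.commutator_eq_bot_iff_le_centralizer.mp h.1), h.2⟩

theorem iSupIndep_components : iSupIndep f := by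
  intro i
  rw [disjoint_iff]
  obtain ⟨A, hA, hAi⟩ := hf i
  refine le_bot_iff.mp (le_trans ?_ (eOf_faithful c hA).le)
  rw [← hAi]
  refine inf_le_inf_left _ (iSup₂_le fun j hj => ?_)
  exact Subgroup.le_centralizer_iff.mp
    (((other_spec c f hfi hf (i := j) (j := i) hj).2).trans inf_le_right)

theorem iSupIndep_planes :
    iSupIndep (fun o : Option ι => o.elim (V ⊓ Subgroup.centralizer (H : Set G))
      (fun i => ⁅V, f i⁆)) := by
  classical
  have hfH : ∀ i, f i ≤ H := fun i => by obtain ⟨A, hA, e⟩ := hf i; rw [e]; exact eOf_le c hA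
  have hplane : ∀ i, ⁅V, f i⁆ ⊓ (V ⊓ Subgroup.centralizer (f i : Set G)) = ⊥ := fun i => by
    obtain ⟨A, hA, e⟩ := hf i; rw [e]; exact eOf_plane_inf c hA
  have hCH : ∀ i, V ⊓ Subgroup.centralizer (H : Set G) ≤ V ⊓ Subgroup.centralizer (f i : Set G) :=
    fun i => inf_le_inf_left _ (Subgroup.centralizer_le (hfH i))
  haveI : Finite ι := Finite.of_injective f hfi
  intro o
  cases o with
  | some i =>
    rw [disjoint_iff]
    refine le_bot_iff.mp (le_trans (inf_le_inf_left _ (iSup₂_le fun j hj => ?_)) (hplane i).le)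
    cases j with
    | none => exact hCH i
    | some j => exact (other_spec c f hfi hf (i := i) (j := j) (fun h => hj (by rw [h]))).2
  | none =>
    rw [disjoint_iff]
    show (V ⊓ Subgroup.centralizer (H : Set G)) ⊓ _ = ⊥
    haveI := Fintype.ofFinite ι
    have key : ∀ S : Finset ι,
        (V ⊓ Subgroup.centralizer (H : Set G)) ⊓ S.sup (fun i => ⁅V, f i⁆) = ⊥ := by
      intro S
      induction S using Finset.induction with
      | empty => simp
      | insert i S hi ih =>
        rw [Finset.sup_insert, eq_bot_iff]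
        rintro x ⟨hx, hx'⟩
        set Y := S.sup (fun i => ⁅V, f i⁆) with hY
        have hYle : Y ≤ V ⊓ Subgroup.centralizer (f i : Set G) := Finset.sup_le fun j hj =>
          (other_spec c f hfi hf (i := i) (j := j) (fun e => hi (e ▸ hj))).2
        have hWV : ⁅V, f i⁆ ≤ V := commutator_le_of_le_normalizer ((hfH i).trans c.hHV)
        have hx'' : x ∈ ((⁅V, f i⁆ ⊔ Y : Subgroup G) : Set G) := hx'
        rw [Subgroup.coe_mul_of_right_le_normalizer_left _ _
          (((hYle.trans inf_le_left).trans (le_centralizer_self c.hV.1)).trans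
            ((Subgroup.centralizer_le hWV).trans (Subgroup.centralizer_le_normalizer _)))] at hx''
        obtain ⟨w, hw, y, hy, rfl⟩ := hx''
        have hwi : w ∈ ⁅V, f i⁆ ⊓ (V ⊓ Subgroup.centralizer (f i : Set G)) := by
          refine ⟨hw, ?_⟩
          have := mul_mem (hCH i hx) (inv_mem (hYle hy))
          rwa [mul_inv_cancel_right] at this
        rw [hplane i, Subgroup.mem_bot] at hwi
        subst hwi
        simp only [one_mul] at hx ⊢
        exact ih.le ⟨hx, hy⟩
    refine le_bot_iff.mp (le_trans (inf_le_inf_left _ (iSup₂_le fun j hj => ?_))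
      (key Finset.univ).le)
    cases j with
    | none => exact absurd rfl hj
    | some j => exact Finset.le_sup (f := fun i => ⁅V, f i⁆) (Finset.mem_univ j)

include hS3 hall

theorem iSup_components : ⨆ i, f i = H := by
  refine le_antisymm (iSup_le fun i => ?_) (le_of_trans_le c hS3 fun T hT => ?_)
  · obtain ⟨A, hA, e⟩ := hf i; rw [e]; exact eOf_le c hA
  · obtain ⟨i, hi⟩ := hall T hT
    exact le_iSup_of_le i (hi ▸ le_sup_right)

theorem sup_planes : (V ⊓ Subgroup.centralizer (H : Set G)) ⊔ (⨆ i, ⁅V, f i⁆) = V := by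
  classical
  have hfH : ∀ i, f i ≤ H := fun i => by obtain ⟨A, hA, e⟩ := hf i; rw [e]; exact eOf_le c hA
  have hWV : ∀ i, ⁅V, f i⁆ ≤ V := fun i =>
    commutator_le_of_le_normalizer ((hfH i).trans c.hHV)
  haveI : Finite ι := Finite.of_injective f hfi
  haveI := Fintype.ofFinite ι
  refine le_antisymm (sup_le inf_le_left (iSup_le hWV)) ?_
  have key : ∀ S : Finset ι, ∀ v ∈ V, ∃ u ∈ V, (∀ i ∈ S, u ∈ Subgroup.centralizer (f i : Set G)) ∧
      v * u⁻¹ ∈ ⨆ i, ⁅V, f i⁆ := by
    intro S
    induction S using Finset.induction with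
    | empty => intro v hv; exact ⟨v, hv, fun i hi => by simp at hi, by simp⟩
    | insert i S hi ih =>
      intro v hv
      obtain ⟨u, hu, huS, huv⟩ := ih v hv
      obtain ⟨A, hA, hAi⟩ := hf i
      have hu' : u ∈ ((⁅V, f i⁆ ⊔ (V ⊓ Subgroup.centralizer (f i : Set G)) : Subgroup G) : Set G) := by
        rw [SetLike.mem_coe, hAi, eOf_plane_sup c hA]; exact hu
      rw [Subgroup.coe_mul_of_right_le_normalizer_left _ _
        ((inf_le_left.trans (le_centralizer_self c.hV.1)).trans
          ((Subgroup.centralizer_le (hWV i)).trans (Subgroup.centralizer_le_normalizer _)))] at hu'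
      obtain ⟨w, hw, k, hk, rfl⟩ := hu'
      refine ⟨k, hk.1, fun j hj => ?_, ?_⟩
      · rcases Finset.mem_insert.mp hj with rfl | hj
        · exact hk.2
        · have hne : j ≠ i := fun e => hi (e ▸ hj)
          have h1 : w ∈ Subgroup.centralizer (f j : Set G) := ((other_spec c f hfi hf hne).2 hw).2
          have h2 : w * k ∈ Subgroup.centralizer (f j : Set G) := huS j hj
          have := mul_mem (inv_mem h1) h2
          rwa [inv_mul_cancel_left] at this
      · have : v * k⁻¹ = v * (w * k)⁻¹ * w := by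
          rw [mul_inv_rev, mul_assoc, mul_assoc, inv_mul_cancel, mul_one]
        rw [this]
        exact mul_mem huv (Subgroup.mem_iSup_of_mem i hw)
  intro v hv
  obtain ⟨u, hu, huall, huv⟩ := key Finset.univ v hv
  have huH : u ∈ Subgroup.centralizer (H : Set G) := by
    rw [← iSup_components c hS3 f hfi hf hall]
    refine Subgroup.mem_centralizer_iff.mpr fun h hh => ?_
    have hle : (⨆ i, f i) ≤ Subgroup.centralizer {u} := iSup_le fun i x hx =>
      Subgroup.mem_centralizer_singleton_iff.mpr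
        (Subgroup.mem_centralizer_iff.mp (huall i (Finset.mem_univ i)) x hx)
    exact Subgroup.mem_centralizer_singleton_iff.mp (hle hh)
  have : v = (v * u⁻¹) * u := by group
  rw [this]
  exact mul_mem (Subgroup.mem_sup_right huv) (Subgroup.mem_sup_left ⟨hu, huH⟩)

end Decomp

end Cfsg.Agent.Thompson.Off
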