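import Mathlib
import Cfsg.Prelude.Def_PLocal
import Cfsg.Agent.Lib.Thompson.Offender.Structure
import Cfsg.Agent.Lib.Thompson.Factorization
import Cfsg.Agent.Lib.Thompson.QuadApply

/-!
A faithful model of the action on an elementary abelian normal subgroup, and the applications of
the offender bound and structure theorem to `J(G)`.
-/

set_option autoImplicit false
set_option linter.unusedVariables false
set_option linter.style.haveILetI false
set_option linter.unusedSectionVars false

namespace Cfsg.Agent.Thompson.Off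

open Cfsg
open scoped commutatorElement

universe u v

/-- The model `V ⋊ Aut V`. -/
abbrev Model {K : Type u} [Group K] (V : Subgroup K) : Type u :=
  SemidirectProduct V (MulAut V) (MonoidHom.id (MulAut V))

variable {K : Type u} [Group K] (V : Subgroup K)

/-- The copy of `V` in the model. -/
abbrev modelV : Subgroup (Model V) := (SemidirectProduct.inl : V →* Model V).range

/-- The action of `K` in the model. -/
def modelHom [V.Normal] : K →* Model V :=
  SemidirectProduct.inr.comp MulAut.conjNormal

instance instFiniteModel [Finite K] : Finite (Model V) := by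
  haveI : Finite (MulAut V) := Finite.of_injective (fun e : MulAut V => (⇑e : V → V))
    fun e e' h => MulEquiv.ext fun x => congrFun h x
  exact Finite.of_injective (fun x : Model V => (x.left, x.right)) fun x y h =>
    SemidirectProduct.ext (Prod.ext_iff.mp h).1 (Prod.ext_iff.mp h).2

theorem inr_conj_inl (α : MulAut V) (v : V) :
    (SemidirectProduct.inr α : Model V) * SemidirectProduct.inl v * (SemidirectProduct.inr α)⁻¹ =
      SemidirectProduct.inl (α v) :=
  ((SemidirectProduct.inl_aut α v).trans (by rw [map_inv])).symm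

theorem inr_range_le_normalizer :
    (SemidirectProduct.inr : MulAut V →* Model V).range ≤
      Subgroup.normalizer (modelV V : Set (Model V)) := by
  rintro _ ⟨α, rfl⟩
  rw [Subgroup.mem_normalizer_iff]
  intro z
  constructor
  · rintro ⟨v, rfl⟩
    exact ⟨α v, (inr_conj_inl V α v).symm⟩
  · rintro ⟨v, hv⟩
    refine ⟨α⁻¹ v, ?_⟩
    rw [← inr_conj_inl V α⁻¹ v, hv, map_inv]
    group

theorem inr_range_inf_centralizer :
    (SemidirectProduct.inr : MulAut V →* Model V).range ⊓
      Subgroup.centralizer (modelV V : Set (Model V)) = ⊥ := by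
  rw [eq_bot_iff]
  rintro _ ⟨⟨α, rfl⟩, hα⟩
  rw [Subgroup.mem_bot, ← map_one (SemidirectProduct.inr : MulAut V →* Model V)]
  refine congrArg _ (MulEquiv.ext fun v => ?_)
  have h := Subgroup.mem_centralizer_iff.mp hα _ ⟨v, rfl⟩
  apply SemidirectProduct.inl_injective (φ := MonoidHom.id (MulAut V))
  rw [← inr_conj_inl V α v, ← h, mul_inv_cancel_right]
  rfl

theorem isElementaryAbelian_modelV {p : ℕ} (hV : IsElementaryAbelian p V) :
    IsElementaryAbelian p (modelV V) := by
  rw [modelV, MonoidHom.range_eq_map]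
  refine isElementaryAbelian_map _ ⟨⟨⟨?_⟩⟩, ?_⟩
  · rintro ⟨x, -⟩ ⟨y, -⟩
    exact Subtype.ext (Subtype.ext (elemAb_comm hV.1 x.2 y.2))
  · exact fun x _ => Subtype.ext (hV.2 x x.2)

section Action

variable [V.Normal]

theorem modelHom_conj (k : K) (v : V) :
    modelHom V k * (SemidirectProduct.inl v : Model V) * (modelHom V k)⁻¹ =
      SemidirectProduct.inl ⟨k * v * k⁻¹, ‹V.Normal›.conj_mem v v.2 k⟩ := by
  rw [modelHom, MonoidHom.comp_apply, inr_conj_inl]
  exact congrArg _ (Subtype.ext (MulAut.conjNormal_apply k v))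

theorem modelHom_range_le_normalizer :
    (modelHom V).range ≤ Subgroup.normalizer (modelV V : Set (Model V)) := by
  rintro _ ⟨k, rfl⟩
  exact inr_range_le_normalizer V ⟨_, rfl⟩

theorem modelHom_inf_centralizer :
    (modelHom V).range ⊓ Subgroup.centralizer (modelV V : Set (Model V)) = ⊥ := by
  rw [eq_bot_iff]
  rintro _ ⟨⟨k, rfl⟩, hk⟩
  exact (inr_range_inf_centralizer V).le ⟨⟨_, rfl⟩, hk⟩

theorem modelHom_ker : (modelHom V).ker = Subgroup.centralizer (V : Set K) := by
  ext k
  rw [MonoidHom.mem_ker, Subgroup.mem_centralizer_iff]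
  constructor
  · intro h v hv
    have h1 := modelHom_conj V k ⟨v, hv⟩
    rw [h, one_mul, inv_one, mul_one] at h1
    have h2 := congrArg Subtype.val (SemidirectProduct.inl_injective h1)
    exact eq_mul_inv_iff_mul_eq.mp h2
  · intro h
    have h1 : MulAut.conjNormal k = (1 : MulAut V) := MulEquiv.ext fun v => Subtype.ext (by
      rw [MulAut.conjNormal_apply, ← h v v.2, mul_inv_cancel_right]; rfl)
    rw [modelHom, MonoidHom.comp_apply, h1, map_one]

theorem card_fixed_map (B : Subgroup K) :
    Nat.card ↥(modelV V ⊓ Subgroup.centralizer ((B.map (modelHom V) : Subgroup (Model V)) :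
      Set (Model V))) = Nat.card ↥(V ⊓ Subgroup.centralizer (B : Set K)) := by
  have h : modelV V ⊓ Subgroup.centralizer ((B.map (modelHom V) : Subgroup (Model V)) :
      Set (Model V)) = ((V ⊓ Subgroup.centralizer (B : Set K)).subgroupOf V).map
        SemidirectProduct.inl := by
    ext x
    constructor
    · rintro ⟨⟨v, rfl⟩, hv⟩
      refine ⟨v, ⟨v.2, Subgroup.mem_centralizer_iff.mpr fun b hb => ?_⟩, rfl⟩
      have h1 := Subgroup.mem_centralizer_iff.mp hv _ ⟨b, hb, rfl⟩
      have h2 := modelHom_conj V b v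
      rw [h1, mul_inv_cancel_right] at h2
      have h3 := congrArg Subtype.val (SemidirectProduct.inl_injective h2)
      exact (eq_mul_inv_iff_mul_eq.mp h3).symm
    · rintro ⟨v, hv, rfl⟩
      refine ⟨⟨v, rfl⟩, Subgroup.mem_centralizer_iff.mpr ?_⟩
      rintro _ ⟨b, hb, rfl⟩
      have h1 : b * (v : K) = v * b := Subgroup.mem_centralizer_iff.mp hv.2 b hb
      have h2 := modelHom_conj V b v
      have h3 : (⟨b * (v : K) * b⁻¹, ‹V.Normal›.conj_mem v v.2 b⟩ : V) = v :=
        Subtype.ext (show b * (v : K) * b⁻¹ = v by rw [h1, mul_inv_cancel_right])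
      rw [h3] at h2
      exact mul_inv_eq_iff_eq_mul.mp h2
  rw [h, Subgroup.card_map_of_injective SemidirectProduct.inl_injective,
    card_subgroupOf_of_le inf_le_left]

theorem card_map_mul_card_inf_ker {L : Type v} [Group L] (f : K →* L) (A : Subgroup K) :
    Nat.card ↥(A.map f) * Nat.card ↥(A ⊓ f.ker) = Nat.card A := by
  have h := Subgroup.card_mul_index (f.ker.subgroupOf A)
  have h1 : f.ker.subgroupOf A = (f.comp A.subtype).ker := rfl
  have h2 : Nat.card ↥(f.ker.subgroupOf A) = Nat.card ↥(A ⊓ f.ker) := by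
    rw [← Subgroup.card_map_of_injective A.subtype_injective, Subgroup.subgroupOf_map_subtype,
      inf_comm]
  rw [h2, h1, Subgroup.index_ker, MonoidHom.range_comp, Subgroup.range_subtype] at h
  rw [mul_comm]
  exact h

variable [Finite K] {p : ℕ}

theorem bestOffender_map (hV : IsElementaryAbelian p V) {A : Subgroup K}
    (hA : A ∈ maxElementaryAbelianSubgroups p K) :
    IsBestOffenderOn p (modelV V) (A.map (modelHom V)) := by
  obtain ⟨hmax, -, -⟩ := bestOffender_of_max (V := V) hV hA
  refine ⟨fun B' hB' => ?_, ?_, fun a ha => ?_⟩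
  · set B := A ⊓ B'.comap (modelHom V) with hB
    have hmap : B.map (modelHom V) = B' := by
      refine le_antisymm ((Subgroup.map_mono inf_le_right).trans (Subgroup.map_comap_le _ _))
        fun y hy => ?_
      obtain ⟨a, ha, rfl⟩ := hB' hy
      exact ⟨a, ⟨ha, hy⟩, rfl⟩
    have hker : B ⊓ (modelHom V).ker = A ⊓ (modelHom V).ker := by
      refine le_antisymm (inf_le_inf_right _ inf_le_left) (le_inf (le_inf inf_le_left ?_) inf_le_right)
      exact inf_le_right.trans (MonoidHom.ker_le_comap _ _)
    have h1 := card_map_mul_card_inf_ker (modelHom V) B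
    have h2 := card_map_mul_card_inf_ker (modelHom V) A
    rw [hmap, hker] at h1
    have hle := hmax B inf_le_left
    rw [← h1, ← h2] at hle
    rw [← hmap, card_fixed_map V B, card_fixed_map V A, hmap]
    refine Nat.le_of_mul_le_mul_left (c := Nat.card ↥(A ⊓ (modelHom V).ker)) ?_ (Nat.card_pos (α := ↥(A ⊓ (modelHom V).ker)))
    calc _ = Nat.card B' * Nat.card ↥(A ⊓ (modelHom V).ker) *
          Nat.card ↥(V ⊓ Subgroup.centralizer (B : Set K)) := by ring
      _ ≤ _ := hle
      _ = _ := by ring
  · rw [← Subgroup.map_commutator, Subgroup.commutator_self_eq_bot_iff.mpr hA.1.1, Subgroup.map_bot]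
    exact bot_le
  · obtain ⟨b, hb, rfl⟩ := ha
    rw [← map_pow, hA.1.2 b hb, map_one]
    exact one_mem _

variable [hp : Fact p.Prime]

theorem offCtx_map (hV : IsElementaryAbelian p V) (hsep : IsPSolvable p K)
    (hO : pCore p (K ⧸ Subgroup.centralizer (V : Set K)) = ⊥) (J : Subgroup K) [hJ : J.Normal] :
    OffCtx p (modelV V) (J.map (modelHom V)) := by
  refine ⟨isElementaryAbelian_modelV V hV, (Subgroup.map_le_range _ J).trans
    (modelHom_range_le_normalizer V), le_bot_iff.mp ((inf_le_inf_right _
      (Subgroup.map_le_range _ J)).trans (modelHom_inf_centralizer V).le), ?_⟩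
  refine centralizer_pPrimeCore_le (isPSolvable_of_surjective ((modelHom V).subgroupMap J)
    (MonoidHom.subgroupMap_surjective _ J) (isPSolvable_subgroup J hsep)) ?_
  set R := (modelHom V).range with hR
  have hRO : pCore p R = ⊥ := by
    rw [hR, ← map_pCore_equiv ((QuotientGroup.quotientMulEquivOfEq (modelHom_ker V).symm).trans
      (QuotientGroup.quotientKerEquivRange (modelHom V))), hO, Subgroup.map_bot]
  have hHn : ((J.map (modelHom V)).subgroupOf R).Normal := by
    refine Subgroup.normal_subgroupOf_of_le_normalizer ?_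
    rintro _ ⟨k, rfl⟩
    exact Subgroup.le_normalizer_map _ ⟨k, (Subgroup.normalizer_eq_top_iff.mpr hJ).ge
      (Subgroup.mem_top k), rfl⟩
  have h1 := map_pCore_normal_le (p := p) ((J.map (modelHom V)).subgroupOf R)
  rw [hRO, le_bot_iff, Subgroup.map_eq_bot_iff_of_injective _ (Subgroup.subtype_injective _)] at h1
  rw [← map_pCore_equiv (Subgroup.subgroupOfEquivOfLe (Subgroup.map_le_range (modelHom V) J)),
    h1, Subgroup.map_bot]

theorem generated_by_offenders (hV : IsElementaryAbelian p V) :
    (thompsonSubgroup p K).map (modelHom V) =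
      ⨆ A : {A : Subgroup (Model V) // A ≤ (thompsonSubgroup p K).map (modelHom V) ∧
        IsBestOffenderOn p (modelV V) A}, (A : Subgroup (Model V)) := by
  refine le_antisymm ?_ (iSup_le fun A => A.2.1)
  rw [Subgroup.map_le_iff_le_comap]
  refine sSup_le fun A hA => ?_
  rw [← Subgroup.map_le_iff_le_comap]
  exact le_iSup (fun A : {A : Subgroup (Model V) // A ≤ (thompsonSubgroup p K).map (modelHom V) ∧
    IsBestOffenderOn p (modelV V) A} => (A : Subgroup (Model V)))
    ⟨A.map (modelHom V), Subgroup.map_mono (le_thompsonSubgroup hA), bestOffender_map V hV hA⟩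

/-- `J(K)` moves `Ω₁(Z(J(C_K(V))))` only inside `V`. -/
theorem omega_commutator_thompson_le (hsep : IsPSolvable p K) (hV : IsElementaryAbelian p V)
    (hO : pCore p (K ⧸ Subgroup.centralizer (V : Set K)) = ⊥) :
    ⁅omegaOne p (centerThompsonOf p (Subgroup.centralizer (V : Set K))), thompsonSubgroup p K⁆ ≤
      V := by
  set C := Subgroup.centralizer (V : Set K) with hC
  set JC := thompsonSubgroupOf p C with hJC
  set Y := omegaOne p (centerThompsonOf p C) with hY
  have c := offCtx_map V hV hsep hO (thompsonSubgroup p K)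
  have hYC : Y ≤ Subgroup.centralizer (JC : Set K) := (omegaOne_le p _).trans inf_le_right
  have hYe : IsElementaryAbelian p Y :=
    isElementaryAbelian_omegaOne (isMulCommutative_inf_centralizer_self JC)
  set π := QuotientGroup.mk' V with hπ
  suffices h : thompsonSubgroup p K ≤
      (Subgroup.centralizer ((Y.map π : Subgroup (K ⧸ V)) : Set (K ⧸ V))).comap π by
    rw [Subgroup.commutator_le]
    intro y hy g hg
    rw [← QuotientGroup.eq_one_iff]
    show π ⁅y, g⁆ = 1
    rw [map_commutatorElement, commutatorElement_eq_one_iff_mul_comm]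
    exact Subgroup.mem_centralizer_iff.mp (h hg) _ ⟨y, hy, rfl⟩
  refine sSup_le fun A hA => ?_
  set A₀ := A ⊓ C with hA₀
  set T := A₀ ⊔ V with hT
  have hVc : V ≤ Subgroup.centralizer (A₀ : Set K) := Subgroup.le_centralizer_iff.mp inf_le_right
  have hTe : IsElementaryAbelian p T := isElementaryAbelian_sup
    (isElementaryAbelian_of_le hA.1 inf_le_left) hV inf_le_right
  have hTC : T ≤ C := sup_le inf_le_right (le_centralizer_self hV.1)
  have hTmax : T ∈ maxElementaryAbelianSubgroups p K := by
    refine mem_max_of_card_le hA hTe ?_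
    have hb := c.bound (Subgroup.map_mono (le_thompsonSubgroup hA))
      (isElementaryAbelian_map (modelHom V) hA.1)
    rw [card_fixed_map V A, show Nat.card ↥(modelV V) = Nat.card V from
      (Nat.card_congr (MonoidHom.ofInjective SemidirectProduct.inl_injective).toEquiv).symm] at hb
    have h1 := card_map_mul_card_inf_ker (modelHom V) A
    rw [modelHom_ker, ← hC, ← hA₀] at h1
    have h2 := card_sup_mul_card_inf (H := A₀) (K := V)
      (hVc.trans (Subgroup.centralizer_le_normalizer _))
    rw [← hT] at h2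
    have h3 : A₀ ⊓ V ≤ V ⊓ Subgroup.centralizer (A : Set K) :=
      le_inf inf_le_right ((inf_le_left.trans inf_le_left).trans (le_centralizer_self hA.1.1))
    have h4 : Nat.card A * Nat.card ↥(A₀ ⊓ V) ≤ Nat.card T * Nat.card ↥(A₀ ⊓ V) := by
      calc Nat.card A * Nat.card ↥(A₀ ⊓ V)
          ≤ Nat.card A * Nat.card ↥(V ⊓ Subgroup.centralizer (A : Set K)) :=
            Nat.mul_le_mul_left _ (Subgroup.card_le_of_le h3)
        _ = Nat.card ↥A₀ * (Nat.card ↥(A.map (modelHom V)) *
              Nat.card ↥(V ⊓ Subgroup.centralizer (A : Set K))) := by rw [← h1]; ring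
        _ ≤ Nat.card ↥A₀ * Nat.card V := Nat.mul_le_mul_left _ hb
        _ = Nat.card T * Nat.card ↥(A₀ ⊓ V) := h2.symm
    exact Nat.le_of_mul_le_mul_right h4 Nat.card_pos
  have hTJ : T ≤ JC := le_thompsonSubgroupOf ⟨hTC, hTe, fun B _ hB => hTmax.2 B hB⟩
  have hYT : Y ≤ T := le_max_of_centralizes hTmax hYe (hYC.trans (Subgroup.centralizer_le hTJ))
  intro a ha
  rw [Subgroup.mem_comap, Subgroup.mem_centralizer_iff]
  rintro _ ⟨y, hy, rfl⟩
  have hy' : y ∈ ((A₀ ⊔ V : Subgroup K) : Set K) := hYT hy
  rw [Subgroup.coe_mul_of_right_le_normalizer_left _ _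
    (hVc.trans (Subgroup.centralizer_le_normalizer _))] at hy'
  obtain ⟨x, hx, w, hw, rfl⟩ := hy'
  have hxa : x * a = a * x := elemAb_comm hA.1.1 hx.1 ha
  have hπw : π w = 1 := by rw [hπ, QuotientGroup.mk'_apply, QuotientGroup.eq_one_iff]; exact hw
  rw [map_mul, hπw, mul_one, ← map_mul, ← map_mul, hxa]

end Action

section Failure

variable {K : Type u} [Group K] [Finite K] {p : ℕ} [hp : Fact p.Prime]

/-- The normal closure of `Ω₁(Z(S))`. -/
abbrev wClosure (p : ℕ) (K : Type u) [Group K] : Subgroup K :=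
  ⨆ S : Sylow p K, omegaOne p ((S : Subgroup K) ⊓ Subgroup.centralizer ((S : Subgroup K) : Set K))

theorem wClosure_props (hsep : IsPSolvable p K) (hO : pPrimeCore p K = ⊥) :
    IsElementaryAbelian p (wClosure p K) ∧
      pCore p (K ⧸ Subgroup.centralizer (wClosure p K : Set K)) = ⊥ :=
  ⟨isElementaryAbelian_iSupOmega (centralizer_pCore_le hsep hO),
    pCore_quotient_centralizer_iSupOmega⟩

theorem failure_ne_bot (hnf : ¬ IsThompsonFactorizable p K) :
    (thompsonSubgroup p K).map (modelHom (wClosure p K)) ≠ ⊥ := by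
  rw [Ne, Subgroup.map_eq_bot_iff, modelHom_ker]
  exact fun h => hnf (thompsonFactorizable_of_le_centralizer h)

/-- Failure of factorization produces a normal `SL(2, p)`. -/
theorem failure_structure (hsep : IsPSolvable p K) (hO : pPrimeCore p K = ⊥)
    (hnf : ¬ IsThompsonFactorizable p K) :
    (p = 2 ∨ p = 3) ∧ ∃ E : Subgroup K, Subgroup.centralizer (wClosure p K : Set K) ≤ E ∧
      E ≤ thompsonSubgroup p K ⊔ Subgroup.centralizer (wClosure p K : Set K) ∧
      thompsonSubgroup p K ⊔ Subgroup.centralizer (wClosure p K : Set K) ≤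
        Subgroup.normalizer (E : Set K) ∧
      ∃ hn : ((Subgroup.centralizer (wClosure p K : Set K)).subgroupOf E).Normal,
        Nonempty ((↥E ⧸ (Subgroup.centralizer (wClosure p K : Set K)).subgroupOf E) ≃*
          Matrix.SpecialLinearGroup (Fin 2) (ZMod p)) := by
  set W := wClosure p K with hW
  set C := Subgroup.centralizer (W : Set K) with hC
  set J := thompsonSubgroup p K with hJ
  set f := modelHom W with hf
  obtain ⟨hWe, hWO⟩ := wClosure_props hsep hO
  have c := offCtx_map W hWe hsep hWO J
  have hS3 := generated_by_offenders W hWe (p := p)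
  obtain ⟨A, hA⟩ := exists_trans c hS3 (failure_ne_bot hnf)
  set E₀ := eOf p (J.map f) A with hE₀
  have hEle : E₀ ≤ J.map f := eOf_le c hA
  have hker : f.ker = C := modelHom_ker W
  have hCE : C ≤ E₀.comap f := hker ▸ MonoidHom.ker_le_comap f E₀
  refine ⟨p_two_or_three c hA, E₀.comap f, hCE, ?_, ?_, ?_⟩
  · refine (Subgroup.comap_mono hEle).trans ?_
    rw [Subgroup.comap_map_eq, hker]
  · have hJC : J ⊔ C ≤ (J.map f).comap f := by
      rw [Subgroup.comap_map_eq, hker]
    refine hJC.trans ((Subgroup.comap_mono (le_normalizer_eOf c hS3 hA)).trans fun k hk => ?_)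
    rw [Subgroup.mem_normalizer_iff]
    intro x
    show f x ∈ E₀ ↔ f (k * x * k⁻¹) ∈ E₀
    rw [map_mul, map_mul, map_inv]
    exact Subgroup.mem_normalizer_iff.mp hk (f x)
  · have hn : (C.subgroupOf (E₀.comap f)).Normal := inferInstance
    refine ⟨hn, ?_⟩
    obtain ⟨φ⟩ := eOf_nonempty_equiv c hA
    set g : ↥(E₀.comap f) →* ↥E₀ := (f.comp (E₀.comap f).subtype).codRestrict E₀ fun x => x.2
    have hg : Function.Surjective g := fun y => by
      obtain ⟨k, -, hk⟩ := hEle y.2
      exact ⟨⟨k, show f k ∈ E₀ from hk.symm ▸ y.2⟩, Subtype.ext hk⟩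
    have hgk : C.subgroupOf (E₀.comap f) = g.ker := by
      ext x
      rw [MonoidHom.mem_ker, Subgroup.mem_subgroupOf, ← hker, MonoidHom.mem_ker]
      exact ⟨fun h => Subtype.ext h, fun h => congrArg Subtype.val h⟩
    exact ⟨((QuotientGroup.quotientMulEquivOfEq hgk).trans
      (QuotientGroup.quotientKerEquivOfSurjective g hg)).trans φ⟩

end Failure

end Cfsg.Agent.Thompson.Off
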