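import Mathlib
import Cfsg.Prelude.Def_PLocal
import Cfsg.Agent.Lib.Thompson.Offender.Model
import Cfsg.Agent.Lib.Coprime.Action

/-!
An elementary abelian group of coprime order acting on a group in which the Thompson factorization
fails: fixed points inside the components.
-/

set_option autoImplicit false
set_option linter.unusedVariables false
set_option linter.style.haveILetI false
set_option linter.unusedSectionVars false

namespace Cfsg.Agent.Thompson.Off

open Cfsg
open scoped commutatorElement MatrixGroups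

universe u

theorem map_qOf {G : Type*} [Group G] {G' : Type*} [Group G'] {p : ℕ} (f : G →* G')
    (hf : Function.Injective f) (H : Subgroup G) : (qOf p H).map f = qOf p (H.map f) := by
  rw [qOf, qOf, ← map_pPrimeCore_equiv (H.equivMapOfInjective f hf), Subgroup.map_map,
    Subgroup.map_map]
  rfl

theorem map_centralizer_equiv' {G : Type*} [Group G] (φ : G ≃* G) (A : Subgroup G) :
    (Subgroup.centralizer (A : Set G)).map φ.toMonoidHom =
      Subgroup.centralizer ((A.map φ.toMonoidHom : Subgroup G) : Set G) := by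
  ext x
  constructor
  · rintro ⟨y, hy, rfl⟩
    refine Subgroup.mem_centralizer_iff.mpr ?_
    rintro _ ⟨a, ha, rfl⟩
    rw [← map_mul, ← map_mul, Subgroup.mem_centralizer_iff.mp hy a ha]
  · intro hx
    refine ⟨φ.symm x, Subgroup.mem_centralizer_iff.mpr fun a ha => ?_, φ.apply_symm_apply x⟩
    apply φ.injective
    rw [map_mul, map_mul, MulEquiv.apply_symm_apply]
    exact Subgroup.mem_centralizer_iff.mp hx _ ⟨a, ha, rfl⟩

theorem trans_map_conj {G : Type*} [Group G] [Finite G] {p : ℕ} {V H A : Subgroup G}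
    (h : IsTrans p V H A) {g : G} (hgV : g ∈ Subgroup.normalizer (V : Set G))
    (hgH : g ∈ Subgroup.normalizer (H : Set G)) :
    IsTrans p V H (A.map (MulAut.conj g).toMonoidHom) := by
  have hinj : Function.Injective (MulAut.conj g).toMonoidHom := (MulAut.conj g).injective
  refine ⟨(Subgroup.map_mono h.le).trans (map_conj_eq_of_mem_normalizer hgH).le,
    by rw [Subgroup.card_map_of_injective hinj, h.card], ?_⟩
  rw [← map_centralizer_equiv']
  nth_rewrite 1 [← map_conj_eq_of_mem_normalizer hgV]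
  rw [← Subgroup.map_inf _ _ _ hinj, Subgroup.card_map_of_injective hinj]
  exact h.fixed

theorem eOf_map_conj {G : Type*} [Group G] {p : ℕ} {H : Subgroup G} (A : Subgroup G) {g : G}
    (hgH : g ∈ Subgroup.normalizer (H : Set G)) :
    (eOf p H A).map (MulAut.conj g).toMonoidHom = eOf p H (A.map (MulAut.conj g).toMonoidHom) := by
  rw [eOf, eOf, Subgroup.map_sup, Subgroup.map_commutator, map_qOf _ (MulAut.conj g).injective,
    map_conj_eq_of_mem_normalizer hgH]

theorem noncommProd_comp_perm {ι : Type*} [Fintype ι] {M : Type*} [Monoid M] (f : ι → M)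
    (σ : Equiv.Perm ι)
    (h : ((Finset.univ : Finset ι) : Set ι).Pairwise (Function.onFun Commute f))
    (h' : ((Finset.univ : Finset ι) : Set ι).Pairwise (Function.onFun Commute fun i => f (σ i))) :
    Finset.univ.noncommProd (fun i => f (σ i)) h' = Finset.univ.noncommProd f h := by
  unfold Finset.noncommProd
  congr 1
  have e : Finset.univ.map σ.toEmbedding = (Finset.univ : Finset ι) := Finset.map_univ_equiv σ
  conv_rhs => rw [← e, Finset.map_val, Multiset.map_map]
  rfl

/-- A `q`-element, `q ≥ 5`, normalizing a plane of `p²` elements, `p ≤ 3`, centralizes it. -/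
theorem le_centralizer_plane {G : Type*} [Group G] [Finite G] {p q : ℕ} [hp : Fact p.Prime]
    [hq : Fact q.Prime] (hp23 : p = 2 ∨ p = 3) (hq5 : 5 ≤ q) {W : Subgroup G}
    (hW : Nat.card W = p ^ 2) {g : G} (hg : IsPGroup q (Subgroup.zpowers g))
    (hn : g ∈ Subgroup.normalizer (W : Set G)) : g ∈ Subgroup.centralizer (W : Set G) := by
  have hle : Subgroup.zpowers g ≤ Subgroup.normalizer (W : Set G) := Subgroup.zpowers_le.mpr hn
  let act : MulAction (Subgroup.zpowers g) W :=
    { smul := fun a w => ⟨(a : G) * w * (a : G)⁻¹,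
        (Subgroup.mem_normalizer_iff.mp (hle a.2) _).mp w.2⟩
      one_smul := fun w => Subtype.ext (by show ((1 : Subgroup.zpowers g) : G) * w * _ = _; simp)
      mul_smul := fun a b w => Subtype.ext (by
        show ((a * b : Subgroup.zpowers g) : G) * w * ((a * b : Subgroup.zpowers g) : G)⁻¹ =
          (a : G) * ((b : G) * w * (b : G)⁻¹) * (a : G)⁻¹
        simp [mul_assoc]) }
  have h1 := hg.card_modEq_card_fixedPoints W
  have h2 : Nat.card (MulAction.fixedPoints (Subgroup.zpowers g) W) =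
      Nat.card ↥(W ⊓ Subgroup.centralizer (Subgroup.zpowers g : Set G)) := by
    refine Nat.card_congr
      { toFun := fun w => ⟨w.1.1, w.1.2, Subgroup.mem_centralizer_iff.mpr fun a ha => ?_⟩
        invFun := fun w => ⟨⟨w.1, w.2.1⟩, fun a => Subtype.ext ?_⟩
        left_inv := fun w => rfl
        right_inv := fun w => rfl }
    · have h : a * (w.1 : G) * a⁻¹ = w.1 := congrArg Subtype.val (w.2 ⟨a, ha⟩)
      exact mul_inv_eq_iff_eq_mul.mp h
    · show (a : G) * w.1 * (a : G)⁻¹ = w.1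
      rw [Subgroup.mem_centralizer_iff.mp w.2.2 a a.2, mul_inv_cancel_right]
  set F := W ⊓ Subgroup.centralizer (Subgroup.zpowers g : Set G) with hF
  have hd := Subgroup.card_dvd_of_le (inf_le_left : F ≤ W)
  rw [hW] at hd
  obtain ⟨k, hk, hk'⟩ := (Nat.dvd_prime_pow hp.out).mp hd
  rw [h2, hk', hW] at h1
  have hk2 : k = 2 := by
    by_contra hne
    have hle2 : p ^ k ≤ p ^ 2 := Nat.pow_le_pow_right hp.out.pos hk
    have hdvd : q ∣ p ^ 2 - p ^ k := (Nat.modEq_iff_dvd' hle2).mp h1.symm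
    have hqp := hq.out
    have hcases : k = 0 ∨ k = 1 := by omega
    have := Nat.le_of_dvd (Nat.sub_pos_of_lt (Nat.pow_lt_pow_right hp.out.one_lt (by omega))) hdvd
    rcases hp23 with rfl | rfl <;> rcases hcases with rfl | rfl <;> norm_num at hdvd this <;>
      interval_cases q <;> first | (norm_num at hdvd; done) | norm_num at hqp
  have hFW : F = W := Subgroup.eq_of_le_of_card_ge inf_le_left (by rw [hk', hk2, hW])
  exact Subgroup.le_centralizer_iff.mp (inf_eq_left.mp hFW) (Subgroup.mem_zpowers g)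

section Orbit

variable {G : Type*} [Group G] [Finite G] {p : ℕ} [hp : Fact p.Prime] {q : ℕ} [hq : Fact q.Prime]
  {V H : Subgroup G} (c : OffCtx p V H) (hq5 : 5 ≤ q) (X : Subgroup G)
  (hXq : IsPGroup q X) (hXV : X ≤ Subgroup.normalizer (V : Set G))
  (hXH : X ≤ Subgroup.normalizer (H : Set G))
  {A : Subgroup G} (hA : IsTrans p V H A)

/-- The `X`-orbit of a component. -/
abbrev Orb (X E : Subgroup G) : Type _ :=
  {F : Subgroup G // ∃ x ∈ X, F = E.map (MulAut.conj x).toMonoidHom}

/-- A representative. -/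
noncomputable def rep {X E : Subgroup G} (F : Orb X E) : G := F.2.choose

theorem rep_spec {X E : Subgroup G} (F : Orb X E) :
    rep F ∈ X ∧ (F : Subgroup G) = E.map (MulAut.conj (rep F)).toMonoidHom :=
  F.2.choose_spec

include c hq5 hXq hXV hXH hA

theorem stab_fix {x : G} (hx : x ∈ X)
    (hn : (eOf p H A).map (MulAut.conj x).toMonoidHom = eOf p H A) :
    x ∈ Subgroup.centralizer (eOf p H A : Set G) ∧
      x ∈ Subgroup.centralizer ((⁅V, eOf p H A⁆ : Subgroup G) : Set G) := by
  have hxn : x ∈ Subgroup.normalizer ((⁅V, eOf p H A⁆ : Subgroup G) : Set G) :=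
    mem_normalizer_of_map_conj_le (le_of_eq (by rw [map_conj_commutator V (hXV hx), hn]))
  have hxW := le_centralizer_plane (p_two_or_three c hA) hq5 (card_commutator_eOf c hA)
    (hXq.to_le (Subgroup.zpowers_le.mpr hx)) hxn
  refine ⟨Subgroup.mem_centralizer_iff.mpr fun e he => ?_, hxW⟩
  have h1 : x * e * x⁻¹ ∈ eOf p H A := hn.le ⟨e, he, rfl⟩
  have h2 : e⁻¹ * (x * e * x⁻¹) ∈ Subgroup.centralizer
      ((⁅V, eOf p H A⁆ : Subgroup G) : Set G) := by
    rw [Subgroup.mem_centralizer_iff]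
    intro w hw
    have hxw := Subgroup.mem_centralizer_iff.mp hxW w hw
    have hxw2 := Subgroup.mem_centralizer_iff.mp (inv_mem hxW) w hw
    have he' : e * w * e⁻¹ ∈ ⁅V, eOf p H A⁆ :=
      (Subgroup.mem_normalizer_iff.mp (Coprime.le_normalizer_commutator_right _ V he) w).mp hw
    have hxe := Subgroup.mem_centralizer_iff.mp hxW _ he'
    calc w * (e⁻¹ * (x * e * x⁻¹)) = e⁻¹ * ((e * w * e⁻¹) * x) * (e * x⁻¹) := by group
      _ = e⁻¹ * (x * (e * w * e⁻¹)) * (e * x⁻¹) := by rw [hxe]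
      _ = e⁻¹ * x * e * (w * x⁻¹) := by group
      _ = e⁻¹ * (x * e * x⁻¹) * w := by rw [hxw2]; group
  have h3 := Subgroup.mem_bot.mp ((eOf_faithful c hA).le
    ⟨(eOf p H A).mul_mem ((eOf p H A).inv_mem he) h1, h2⟩)
  rw [inv_mul_eq_one] at h3
  exact mul_inv_eq_iff_eq_mul.mp h3.symm |>.symm

theorem conj_eq_rep (F : Orb X (eOf p H A)) {x : G} (hx : x ∈ X)
    (hF : (F : Subgroup G) = (eOf p H A).map (MulAut.conj x).toMonoidHom) {z : G}
    (hz : z ∈ eOf p H A ∨ z ∈ ⁅V, eOf p H A⁆) : x * z * x⁻¹ = rep F * z * (rep F)⁻¹ := by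
  obtain ⟨hr, hrF⟩ := rep_spec F
  set y := (rep F)⁻¹ * x with hy
  have hyn : (eOf p H A).map (MulAut.conj y).toMonoidHom = eOf p H A := by
    rw [hy, ← map_map_conj, ← hF, hrF, map_map_conj, inv_mul_cancel]
    ext; simp
  obtain ⟨h1, h2⟩ := stab_fix c hq5 X hXq hXV hXH hA (X.mul_mem (X.inv_mem hr) hx) hyn
  have hyz : z * y = y * z := by
    rcases hz with hz | hz
    · exact Subgroup.mem_centralizer_iff.mp h1 z hz
    · exact Subgroup.mem_centralizer_iff.mp h2 z hz
  calc x * z * x⁻¹ = rep F * (y * z) * x⁻¹ := by rw [hy]; group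
    _ = rep F * (z * y) * x⁻¹ := by rw [hyz]
    _ = rep F * z * (rep F)⁻¹ := by rw [hy]; group

theorem orb_eOf (F : Orb X (eOf p H A)) :
    ∃ B, IsTrans p V H B ∧ (F : Subgroup G) = eOf p H B := by
  obtain ⟨hr, hrF⟩ := rep_spec F
  exact ⟨_, trans_map_conj hA (hXV hr) (hXH hr), hrF.trans (eOf_map_conj A (hXH hr))⟩

theorem orb_other {F F' : Orb X (eOf p H A)} (hne : F ≠ F') :
    (F' : Subgroup G) ≤ Subgroup.centralizer ((F : Subgroup G) : Set G) ∧
      ⁅V, (F' : Subgroup G)⁆ ≤ V ⊓ Subgroup.centralizer ((F : Subgroup G) : Set G) :=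
  other_spec c (fun F : Orb X (eOf p H A) => (F : Subgroup G)) Subtype.val_injective
    (orb_eOf c hq5 X hXq hXV hXH hA) hne

theorem conj_plane_mem (F : Orb X (eOf p H A)) {w : G} (hw : w ∈ ⁅V, eOf p H A⁆) :
    rep F * w * (rep F)⁻¹ ∈ ⁅V, (F : Subgroup G)⁆ := by
  rw [(rep_spec F).2, ← map_conj_commutator V (hXV (rep_spec F).1)]
  exact ⟨w, hw, rfl⟩

theorem conj_comp_mem (F : Orb X (eOf p H A)) {e : G} (he : e ∈ eOf p H A) :
    rep F * e * (rep F)⁻¹ ∈ (F : Subgroup G) := by
  rw [(rep_spec F).2]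
  exact ⟨e, he, rfl⟩

/-- The diagonal of a component and of its plane along an orbit. -/
theorem exists_diagonal :
    ∃ (ψ : ↥(eOf p H A) →* G) (ω : ↥⁅V, eOf p H A⁆ →* G),
      ψ.range ≤ H ∧ ω.range ≤ V ∧ Function.Injective ψ ∧ Function.Injective ω ∧
      ψ.range ≤ Subgroup.centralizer (X : Set G) ∧ ω.range ≤ Subgroup.centralizer (X : Set G) ∧
      (∀ e : ↥(eOf p H A), ∃ d ∈ Subgroup.centralizer (eOf p H A : Set G), ψ e = (e : G) * d) ∧
      (∀ (e : ↥(eOf p H A)) (w : ↥⁅V, eOf p H A⁆), ∃ w' : ↥⁅V, eOf p H A⁆,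
        (w' : G) = (e : G) * w * (e : G)⁻¹ ∧ ψ e * ω w * (ψ e)⁻¹ = ω w') := by
  classical
  set E := eOf p H A with hE
  set WE := ⁅V, E⁆ with hWE
  haveI : Fintype (Orb X E) := Fintype.ofFinite _
  have hFH : ∀ F : Orb X E, (F : Subgroup G) ≤ H := fun F => by
    obtain ⟨B, hB, e⟩ := orb_eOf c hq5 X hXq hXV hXH hA F
    rw [e]; exact eOf_le c hB
  have hFV : ∀ F : Orb X E, ⁅V, (F : Subgroup G)⁆ ≤ V := fun F =>
    commutator_le_of_le_normalizer ((hFH F).trans c.hHV)
  let ψF : Orb X E → (E →* G) := fun F => (MulAut.conj (rep F)).toMonoidHom.comp E.subtype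
  let ωF : Orb X E → (WE →* G) := fun F => (MulAut.conj (rep F)).toMonoidHom.comp WE.subtype
  have hψm : ∀ (F : Orb X E) (e : E), ψF F e ∈ (F : Subgroup G) := fun F e =>
    conj_comp_mem c hq5 X hXq hXV hXH hA F e.2
  have hωm : ∀ (F : Orb X E) (w : WE), ωF F w ∈ ⁅V, (F : Subgroup G)⁆ := fun F w =>
    conj_plane_mem c hq5 X hXq hXV hXH hA F w.2
  have hcψ : Pairwise fun F F' => ∀ a b, Commute (ψF F a) (ψF F' b) := fun F F' hne a b =>
    Subgroup.mem_centralizer_iff.mp
      ((orb_other c hq5 X hXq hXV hXH hA hne).1 (hψm F' b)) _ (hψm F a)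
  have hcω : Pairwise fun F F' => ∀ a b, Commute (ωF F a) (ωF F' b) := fun F F' hne a b =>
    elemAb_comm c.hV.1 (hFV F (hωm F a)) (hFV F' (hωm F' b))
  let ψ : E →* G :=
    { toFun := fun e => MonoidHom.noncommPiCoprod ψF hcψ fun _ => e
      map_one' := map_one _
      map_mul' := fun a b => map_mul _ (fun _ => a) (fun _ => b) }
  let ω : WE →* G :=
    { toFun := fun e => MonoidHom.noncommPiCoprod ωF hcω fun _ => e
      map_one' := map_one _
      map_mul' := fun a b => map_mul _ (fun _ => a) (fun _ => b) }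
  -- one factor and the rest
  have hψd : ∀ (F : Orb X E) (e : E), ∃ d, d ∈ Subgroup.centralizer ((F : Subgroup G) : Set G) ∧
      d ∈ Subgroup.centralizer ((⁅V, (F : Subgroup G)⁆ : Subgroup G) : Set G) ∧
      ψ e = ψF F e * d := by
    intro F e
    refine ⟨(Finset.univ.erase F).noncommProd (fun i => ψF i e)
      (fun i _ j _ hij => hcψ hij e e), ?_, ?_,
      (Finset.mul_noncommProd_erase Finset.univ (Finset.mem_univ F) (fun i => ψF i e)
        (fun i _ j _ hij => hcψ hij e e)).symm⟩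
    · exact Subgroup.noncommProd_mem _ _ fun i hi =>
        (orb_other c hq5 X hXq hXV hXH hA (Finset.ne_of_mem_erase hi).symm).1 (hψm i e)
    · exact Subgroup.noncommProd_mem _ _ fun i hi => (Subgroup.le_centralizer_iff.mp
        ((orb_other c hq5 X hXq hXV hXH hA (Finset.ne_of_mem_erase hi)).2.trans inf_le_right))
          (hψm i e)
  let F₀ : Orb X E := ⟨E, 1, one_mem X, by ext; simp⟩
  have hrep₀ : ∀ z : G, (z ∈ E ∨ z ∈ WE) → rep F₀ * z * (rep F₀)⁻¹ = z := fun z hz => by
    rw [← conj_eq_rep c hq5 X hXq hXV hXH hA F₀ (one_mem X) (by ext; simp [F₀, hE]) hz]; simp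
  have hψ₀ : ∀ e : E, ψF F₀ e = e := fun e => hrep₀ e (Or.inl e.2)
  have hω₀ : ∀ w : WE, ωF F₀ w = w := fun w => hrep₀ w (Or.inr w.2)
  have hωd : ∀ w : WE, ∃ u ∈ V ⊓ Subgroup.centralizer (E : Set G), ω w = ωF F₀ w * u := fun w =>
    ⟨(Finset.univ.erase F₀).noncommProd (fun i => ωF i w) (fun i _ j _ hij => hcω hij w w),
      Subgroup.noncommProd_mem _ _ fun i hi =>
        (orb_other c hq5 X hXq hXV hXH hA (F := F₀) (Finset.ne_of_mem_erase hi).symm).2 (hωm i w),
      (Finset.mul_noncommProd_erase Finset.univ (Finset.mem_univ F₀) (fun i => ωF i w)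
        (fun i _ j _ hij => hcω hij w w)).symm⟩
  -- the permutation induced by an element of `X`
  have hperm : ∀ x ∈ X, ∃ σ : Equiv.Perm (Orb X E),
      (∀ F (e : E), MulAut.conj x (ψF F e) = ψF (σ F) e) ∧
      ∀ F (w : WE), MulAut.conj x (ωF F w) = ωF (σ F) w := by
    intro x hx
    let σ : Orb X E → Orb X E := fun F => ⟨(F : Subgroup G).map (MulAut.conj x).toMonoidHom,
      x * rep F, X.mul_mem hx (rep_spec F).1, by rw [← map_map_conj, ← (rep_spec F).2]⟩
    have hσ : Function.Injective σ := fun a b h => Subtype.ext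
      (Subgroup.map_injective (f := (MulAut.conj x).toMonoidHom) (MulAut.conj x).injective
        (congrArg Subtype.val h))
    have heq : ∀ F (z : G), (z ∈ E ∨ z ∈ WE) →
        x * (rep F * z * (rep F)⁻¹) * x⁻¹ = rep (σ F) * z * (rep (σ F))⁻¹ := fun F z hz => by
      rw [← conj_eq_rep c hq5 X hXq hXV hXH hA (σ F) (X.mul_mem hx (rep_spec F).1)
        (by rw [← map_map_conj, ← (rep_spec F).2]) hz]
      group
    exact ⟨Equiv.ofBijective σ (Finite.injective_iff_bijective.mp hσ),
      fun F e => heq F e (Or.inl e.2), fun F w => heq F w (Or.inr w.2)⟩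
  have hψH : ψ.range ≤ H := by
    rintro _ ⟨e, rfl⟩
    exact Subgroup.noncommProd_mem _ (fun i _ j _ hij => hcψ hij e e) fun i _ => hFH i (hψm i e)
  refine ⟨ψ, ω, hψH, ?_, ?_, ?_, ?_, ?_, fun e => ?_, fun e w => ?_⟩
  · rintro _ ⟨w, rfl⟩
    exact Subgroup.noncommProd_mem _ (fun i _ j _ hij => hcω hij w w) fun i _ => hFV i (hωm i w)
  · refine (injective_iff_map_eq_one ψ).mpr fun e he => Subtype.ext ?_
    obtain ⟨d, -, hd, hde⟩ := hψd F₀ e
    rw [he, hψ₀] at hde
    have he' : (e : G) = d⁻¹ := eq_inv_of_mul_eq_one_left hde.symm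
    exact Subgroup.mem_bot.mp ((eOf_faithful c hA).le ⟨e.2, he' ▸ (Subgroup.inv_mem _ hd)⟩)
  · refine (injective_iff_map_eq_one ω).mpr fun w hw => Subtype.ext ?_
    obtain ⟨u, hu, huw⟩ := hωd w
    rw [hw, hω₀] at huw
    have hw' : (w : G) = u⁻¹ := eq_inv_of_mul_eq_one_left huw.symm
    exact Subgroup.mem_bot.mp ((eOf_plane_inf c hA).le ⟨w.2, hw' ▸ (Subgroup.inv_mem _ hu)⟩)
  · rintro _ ⟨e, rfl⟩
    rw [Subgroup.mem_centralizer_iff]
    intro x hx
    obtain ⟨σ, hσ, -⟩ := hperm x hx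
    have h : MulAut.conj x (ψ e) = ψ e := by
      show MulAut.conj x (Finset.univ.noncommProd (fun i => ψF i e)
        (fun i _ j _ hij => hcψ hij e e)) = _
      refine (Finset.map_noncommProd Finset.univ (fun i => ψF i e)
        (fun i _ j _ hij => hcψ hij e e) (MulAut.conj x)).trans ?_
      exact (Finset.noncommProd_congr rfl (fun i _ => hσ i e) _).trans
        (noncommProd_comp_perm (fun i => ψF i e) σ (fun i _ j _ hij => hcψ hij e e)
          (fun i _ j _ hij => hcψ (σ.injective.ne hij) e e))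
    exact mul_inv_eq_iff_eq_mul.mp h
  · rintro _ ⟨w, rfl⟩
    rw [Subgroup.mem_centralizer_iff]
    intro x hx
    obtain ⟨σ, -, hσ⟩ := hperm x hx
    have h : MulAut.conj x (ω w) = ω w := by
      show MulAut.conj x (Finset.univ.noncommProd (fun i => ωF i w)
        (fun i _ j _ hij => hcω hij w w)) = _
      refine (Finset.map_noncommProd Finset.univ (fun i => ωF i w)
        (fun i _ j _ hij => hcω hij w w) (MulAut.conj x)).trans ?_
      exact (Finset.noncommProd_congr rfl (fun i _ => hσ i w) _).trans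
        (noncommProd_comp_perm (fun i => ωF i w) σ (fun i _ j _ hij => hcω hij w w)
          (fun i _ j _ hij => hcω (σ.injective.ne hij) w w))
    exact mul_inv_eq_iff_eq_mul.mp h
  · obtain ⟨d, hd, -, hde⟩ := hψd F₀ e
    exact ⟨d, hd, by rw [hde, hψ₀]⟩
  · refine ⟨⟨(e : G) * w * (e : G)⁻¹, (Subgroup.mem_normalizer_iff.mp
      (Coprime.le_normalizer_commutator_right E V e.2) _).mp w.2⟩, rfl, ?_⟩
    show MulAut.conj (ψ e) (Finset.univ.noncommProd (fun i => ωF i w)
        (fun i _ j _ hij => hcω hij w w)) = _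
    refine (Finset.map_noncommProd Finset.univ (fun i => ωF i w)
      (fun i _ j _ hij => hcω hij w w) (MulAut.conj (ψ e))).trans ?_
    refine Finset.noncommProd_congr rfl (fun F _ => ?_) _
    obtain ⟨d, -, hd, hde⟩ := hψd F e
    have hd' := Subgroup.mem_centralizer_iff.mp hd _ (hωm F w)
    have e1 : ψF F e = rep F * (e : G) * (rep F)⁻¹ := rfl
    have e2 : ωF F w = rep F * (w : G) * (rep F)⁻¹ := rfl
    rw [hde]
    show ψF F e * d * ωF F w * (ψF F e * d)⁻¹ = rep F * ((e : G) * w * (e : G)⁻¹) * (rep F)⁻¹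
    calc ψF F e * d * ωF F w * (ψF F e * d)⁻¹
        = ψF F e * (d * ωF F w) * d⁻¹ * (ψF F e)⁻¹ := by group
      _ = ψF F e * (ωF F w * d) * d⁻¹ * (ψF F e)⁻¹ := by rw [hd']
      _ = _ := by rw [e1, e2]; group

end Orbit

section Outer

variable {G : Type u} [Group G] [Finite G] (K X : Subgroup G)
  (hXK : X ≤ Subgroup.normalizer (K : Set G))

/-- `X` acting on `K` by conjugation. -/
def conjAutOn : X →* MulAut K where
  toFun x :=
    { toFun := fun k => ⟨(x : G) * k * (x : G)⁻¹,
        (Subgroup.mem_normalizer_iff.mp (hXK x.2) _).mp k.2⟩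
      invFun := fun k => ⟨(x : G)⁻¹ * k * x, by
        simpa using (Subgroup.mem_normalizer_iff.mp (inv_mem (hXK x.2)) _).mp k.2⟩
      left_inv := fun k => Subtype.ext (by simp [mul_assoc])
      right_inv := fun k => Subtype.ext (by simp [mul_assoc])
      map_mul' := fun k l => Subtype.ext (by simp [mul_assoc]) }
  map_one' := MulEquiv.ext fun k => Subtype.ext (by simp)
  map_mul' a b := MulEquiv.ext fun k => Subtype.ext (by simp [mul_assoc])

/-- Restriction of automorphisms to a characteristic subgroup. -/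
def restrictAut {L : Type u} [Group L] (W : Subgroup L) [hW : W.Characteristic] :
    MulAut L →* MulAut W where
  toFun φ :=
    { toFun := fun w => ⟨φ w, (Subgroup.characteristic_iff_map_eq.mp hW φ).le ⟨w, w.2, rfl⟩⟩
      invFun := fun w => ⟨φ.symm w,
        (Subgroup.characteristic_iff_map_eq.mp hW φ.symm).le ⟨w, w.2, rfl⟩⟩
      left_inv := fun w => Subtype.ext (φ.symm_apply_apply _)
      right_inv := fun w => Subtype.ext (φ.apply_symm_apply _)
      map_mul' := fun v w => Subtype.ext (map_mul φ _ _) }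
  map_one' := MulEquiv.ext fun w => rfl
  map_mul' a b := MulEquiv.ext fun w => rfl

variable {p : ℕ} [hp : Fact p.Prime]

instance wClosure_characteristic {L : Type u} [Group L] [Finite L] :
    (wClosure p L).Characteristic := by
  refine Subgroup.characteristic_iff_map_le.mpr fun φ => ?_
  rw [wClosure, Subgroup.map_iSup]
  refine iSup_le fun S => ?_
  rw [map_omegaCenter _ _ φ.injective.injOn, ← Sylow.coe_mapSurjective φ.surjective S]
  exact le_iSup (fun T : Sylow p L => omegaOne p ((T : Subgroup L) ⊓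
    Subgroup.centralizer ((T : Subgroup L) : Set L))) (S.mapSurjective φ.surjective)

/-- `X` in the model. -/
def outerHom : X →* Model (wClosure p K) :=
  SemidirectProduct.inr.comp ((restrictAut (wClosure p K)).comp (conjAutOn K X hXK))

theorem outerHom_conj (x : X) (k : K) :
    outerHom (p := p) K X hXK x * modelHom (wClosure p K) k * (outerHom K X hXK x)⁻¹ =
      modelHom (wClosure p K) (conjAutOn K X hXK x k) := by
  simp only [outerHom, modelHom, MonoidHom.comp_apply]
  rw [← map_inv, ← map_mul, ← map_mul]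
  refine congrArg _ (MulEquiv.ext fun w => Subtype.ext ?_)
  show conjAutOn K X hXK x
      ((MulAut.conjNormal k ((restrictAut (wClosure p K) (conjAutOn K X hXK x))⁻¹ w) :
        wClosure p K) : K) = ((MulAut.conjNormal (conjAutOn K X hXK x k) w : wClosure p K) : K)
  rw [MulAut.conjNormal_apply, MulAut.conjNormal_apply, map_mul, map_mul, map_inv]
  congr 2
  exact (conjAutOn K X hXK x).apply_symm_apply _

theorem outer_data {q : ℕ} [hq : Fact q.Prime] (hX : IsElementaryAbelian q X) :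
    IsPGroup q (outerHom (p := p) K X hXK).range ∧
      (outerHom (p := p) K X hXK).range ≤
        Subgroup.normalizer ((modelV (wClosure p K)) : Set (Model (wClosure p K))) ∧
      (outerHom (p := p) K X hXK).range ≤ Subgroup.normalizer
        (((thompsonSubgroup p K).map (modelHom (wClosure p K))) : Set (Model (wClosure p K))) := by
  refine ⟨?_, ?_, ?_⟩
  · exact IsPGroup.of_surjective (isPGroup_of_isElementaryAbelian hX)
      (outerHom (p := p) K X hXK).rangeRestrict (MonoidHom.rangeRestrict_surjective _)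
  · rintro _ ⟨x, rfl⟩
    exact inr_range_le_normalizer _ ⟨_, rfl⟩
  · rintro _ ⟨x, rfl⟩
    refine mem_normalizer_of_map_conj_le ?_
    rintro _ ⟨_, ⟨j, hj, rfl⟩, rfl⟩
    show outerHom K X hXK x * modelHom (wClosure p K) j * (outerHom K X hXK x)⁻¹ ∈ _
    rw [outerHom_conj]
    exact ⟨_, (Subgroup.characteristic_iff_map_eq.mp inferInstance (conjAutOn K X hXK x)).le
      ⟨j, hj, rfl⟩, rfl⟩

theorem five_le {q : ℕ} [hq : Fact q.Prime] (hqK : ¬ q ∣ Nat.card K)
    {V H : Subgroup (Model (wClosure p K))} (c : OffCtx p V H)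
    (hHr : H ≤ (modelHom (wClosure p K)).range)
    {A : Subgroup (Model (wClosure p K))} (hA : IsTrans p V H A) : 5 ≤ q := by
  haveI : NeZero p := ⟨hp.out.ne_zero⟩
  obtain ⟨φ⟩ := eOf_nonempty_equiv c hA
  have h1 : Nat.card ↥(eOf p H A) ∣ Nat.card K :=
    (Subgroup.card_dvd_of_le ((eOf_le c hA).trans hHr)).trans
      (Subgroup.card_range_dvd (modelHom (wClosure p K)))
  rw [Nat.card_congr φ.toEquiv, LinearGroup.card_SL_two, Nat.card_zmod] at h1
  have h6 : 6 ∣ Nat.card K := by
    rcases p_two_or_three c hA with rfl | rfl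
    · exact (by norm_num at h1; exact h1)
    · exact dvd_trans (by norm_num) h1
  have h2 : q ≠ 2 := fun e => hqK (e ▸ dvd_trans (by norm_num) h6)
  have h3 : q ≠ 3 := fun e => hqK (e ▸ dvd_trans (by norm_num) h6)
  have h4 : q ≠ 4 := fun e => by
    have := hq.out
    rw [e] at this
    norm_num at this
  have := hq.out.two_le
  omega

theorem lift_fixed {q : ℕ} [hq : Fact q.Prime] (hX : IsElementaryAbelian q X)
    (hqK : ¬ q ∣ Nat.card K) {y : Model (wClosure p K)}
    (hy : y ∈ (modelHom (wClosure p K)).range)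
    (hfix : y ∈ Subgroup.centralizer
      (((outerHom (p := p) K X hXK).range : Subgroup (Model _)) : Set (Model _))) :
    ∃ k : K, (k : G) ∈ Subgroup.centralizer (X : Set G) ∧ modelHom (wClosure p K) k = y := by
  obtain ⟨k₀, rfl⟩ := hy
  set f := modelHom (wClosure p K) with hf
  set N := f.ker.map K.subtype with hN
  have hXN : X ≤ Subgroup.normalizer (N : Set G) := by
    intro x hx
    refine mem_normalizer_of_map_conj_le ?_
    rintro _ ⟨_, ⟨k, hk, rfl⟩, rfl⟩
    refine ⟨conjAutOn K X hXK ⟨x, hx⟩ k, ?_, rfl⟩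
    rw [SetLike.mem_coe, MonoidHom.mem_ker, ← outerHom_conj, MonoidHom.mem_ker.mp hk, mul_one,
      mul_inv_cancel]
  have hcop : (Nat.card X).Coprime (Nat.card N) := by
    obtain ⟨m, hm⟩ := IsPGroup.iff_card.mp (isPGroup_of_isElementaryAbelian hX)
    rw [hm]
    refine Nat.Coprime.pow_left m ((Nat.Prime.coprime_iff_not_dvd hq.out).mpr fun h => hqK ?_)
    exact h.trans (Subgroup.card_dvd_of_le (Subgroup.map_subtype_le _))
  obtain ⟨n, hn, hc⟩ := Coprime.exists_fixed_in_coset X N hXN hcop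
    (Or.inl (Group.isSolvable_of_comm fun a b => Subtype.ext (elemAb_comm hX.1 a.2 b.2)))
    (k₀ : G) fun x hx => by
      refine ⟨k₀⁻¹ * conjAutOn K X hXK ⟨x, hx⟩ k₀, ?_, rfl⟩
      rw [SetLike.mem_coe, MonoidHom.mem_ker, map_mul, map_inv, ← outerHom_conj,
        Subgroup.mem_centralizer_iff.mp hfix _ ⟨⟨x, hx⟩, rfl⟩, mul_inv_cancel_right,
        inv_mul_cancel]
  obtain ⟨n', hn', rfl⟩ := hn
  exact ⟨k₀ * n', hc, by rw [map_mul, MonoidHom.mem_ker.mp hn', mul_one]⟩

variable {q : ℕ} [hq : Fact q.Prime]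

/-- Failure of factorization forces a plane and an `SL(2, p)` on it fixed by `X`. -/
theorem fixed_plane (hX : IsElementaryAbelian q X) (hqK : ¬ q ∣ Nat.card K) (hXK' : X ≤
      Subgroup.normalizer (K : Set G)) (hsep : IsPSolvable p K) (hO : pPrimeCore p K = ⊥)
    (hnf : ¬ IsThompsonFactorizable p K) :
    (p = 2 ∨ p = 3) ∧ ∃ W D : Subgroup G, W ≤ K ⊓ Subgroup.centralizer (X : Set G) ∧
      D ≤ K ⊓ Subgroup.centralizer (X : Set G) ∧ IsElementaryAbelian p W ∧ Nat.card W = p ^ 2 ∧
      D ≤ Subgroup.normalizer (W : Set G) ∧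
      ∃ hn : ((Subgroup.centralizer (W : Set G)).subgroupOf D).Normal,
        Nonempty ((↥D ⧸ (Subgroup.centralizer (W : Set G)).subgroupOf D) ≃*
          Matrix.SpecialLinearGroup (Fin 2) (ZMod p)) := by
  set Wc := wClosure p K with hWc
  set f := modelHom Wc with hfdef
  obtain ⟨hWe, hWO⟩ := wClosure_props hsep hO
  have c := offCtx_map Wc hWe hsep hWO (thompsonSubgroup p K)
  have hS3 := generated_by_offenders Wc hWe (p := p)
  obtain ⟨A, hA⟩ := exists_trans c hS3 (failure_ne_bot hnf)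
  have hHr : (thompsonSubgroup p K).map f ≤ f.range := Subgroup.map_le_range _ _
  obtain ⟨hXq, hXV, hXH⟩ := outer_data (p := p) K X hXK' hX
  obtain ⟨ψ, ω, hψH, hωV, hψi, hωi, hψX, hωX, -, hact⟩ :=
    exists_diagonal c (five_le K hqK c hHr hA) (outerHom (p := p) K X hXK').range hXq hXV hXH hA
  set W : Subgroup G := ((ω.range.comap (SemidirectProduct.inl : Wc →* Model Wc)).map
    Wc.subtype).map K.subtype with hW
  set D : Subgroup G := (ψ.range.comap f ⊓ (Subgroup.centralizer (X : Set G)).subgroupOf K).map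
    K.subtype with hD
  have hωm : ∀ w : Wc, (SemidirectProduct.inl w : Model Wc) ∈ ω.range → ((w : K) : G) ∈ W :=
    fun w hw => ⟨w, ⟨w, hw, rfl⟩, rfl⟩
  refine ⟨p_two_or_three c hA, W, D, ?_, ?_, ?_, ?_, ?_, ?_⟩
  · rintro _ ⟨_, ⟨w, hw, rfl⟩, rfl⟩
    refine ⟨(w : K).2, Subgroup.mem_centralizer_iff.mpr fun x hx => ?_⟩
    have h1 := Subgroup.mem_centralizer_iff.mp (hωX hw) _ ⟨⟨x, hx⟩, rfl⟩
    have h2 : outerHom (p := p) K X hXK' ⟨x, hx⟩ * (SemidirectProduct.inl w : Model Wc) *
        (outerHom (p := p) K X hXK' ⟨x, hx⟩)⁻¹ = SemidirectProduct.inl w := by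
      rw [h1, mul_inv_cancel_right]
    rw [outerHom, MonoidHom.comp_apply, inr_conj_inl] at h2
    have h3 : x * ((w : K) : G) * x⁻¹ = ((w : K) : G) :=
      congrArg (fun v : Wc => ((v : K) : G)) (SemidirectProduct.inl_injective h2)
    exact mul_inv_eq_iff_eq_mul.mp h3
  · rintro _ ⟨k, hk, rfl⟩
    exact ⟨k.2, hk.2⟩
  · exact isElementaryAbelian_of_le (isElementaryAbelian_map K.subtype hWe)
      (Subgroup.map_mono (Subgroup.map_subtype_le _))
  · have hle : ω.range ≤ (SemidirectProduct.inl : Wc →* Model Wc).range := hωV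
    rw [hW, Subgroup.card_map_of_injective K.subtype_injective,
      Subgroup.card_map_of_injective Wc.subtype_injective,
      ← Subgroup.card_map_of_injective (f := (SemidirectProduct.inl : Wc →* Model Wc))
        SemidirectProduct.inl_injective, Subgroup.map_comap_eq_self hle,
      ← Nat.card_congr (MonoidHom.ofInjective hωi).toEquiv]
    exact card_commutator_eOf c hA
  · rintro _ ⟨k, hk, rfl⟩
    refine mem_normalizer_of_map_conj_le ?_
    rintro _ ⟨_, ⟨_, ⟨w, hw, rfl⟩, rfl⟩, rfl⟩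
    obtain ⟨e, he⟩ := hk.1
    obtain ⟨z, hz⟩ := hw
    obtain ⟨z', -, hz'⟩ := hact e z
    rw [he, hz, hfdef, modelHom_conj] at hz'
    exact hωm ⟨(k : K) * (w : K) * (k : K)⁻¹, _⟩ ⟨z', hz'.symm⟩
  · have hDker : ∀ k : K, (k : G) ∈ D → ∀ e, ψ e = f k →
        ((k : G) ∈ Subgroup.centralizer (W : Set G) ↔ e = 1) := by
      intro k hk e he
      constructor
      · intro hkW
        refine Subtype.ext (Subgroup.mem_bot.mp ((eOf_faithful c hA).le ⟨e.2,
          Subgroup.mem_centralizer_iff.mpr fun z hz => ?_⟩))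
        obtain ⟨z', hz'e, hz'⟩ := hact e ⟨z, hz⟩
        obtain ⟨w, hw⟩ := hωV ⟨⟨z, hz⟩, rfl⟩
        have hkw : k * (w : K) * k⁻¹ = (w : K) := Subtype.ext (by
          have := Subgroup.mem_centralizer_iff.mp hkW _ (hωm w ⟨⟨z, hz⟩, hw.symm⟩)
          show (k : G) * ((w : K) : G) * (k : G)⁻¹ = ((w : K) : G)
          rw [← this, mul_inv_cancel_right])
        rw [he, ← hw, hfdef, modelHom_conj,
          show (⟨k * (w : K) * k⁻¹, (inferInstance : Wc.Normal).conj_mem w w.2 k⟩ : Wc) = w from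
            Subtype.ext hkw, hw] at hz'
        have h5 := congrArg Subtype.val (hωi hz')
        rw [hz'e] at h5
        exact eq_mul_inv_iff_mul_eq.mp h5
      · rintro rfl
        rw [map_one] at he
        have hk' : k ∈ Subgroup.centralizer (Wc : Set K) := by
          rw [← modelHom_ker, MonoidHom.mem_ker]; exact he.symm
        refine Subgroup.mem_centralizer_iff.mpr ?_
        rintro _ ⟨_, ⟨w, -, rfl⟩, rfl⟩
        exact congrArg Subtype.val (Subgroup.mem_centralizer_iff.mp hk' (w : K) w.2)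
    have hDK : ∀ d : D, ∃ k : K, (k : G) = d ∧ f k ∈ ψ.range := by
      rintro ⟨_, k, hk, rfl⟩
      exact ⟨k, rfl, hk.1⟩
    have hDle : D ≤ K := Subgroup.map_subtype_le _
    have hDψ : ∀ d : D, f ⟨d, hDle d.2⟩ ∈ ψ.range := fun d => by
      obtain ⟨k, hk, hk'⟩ := hDK d
      rwa [show (⟨(d : G), hDle d.2⟩ : K) = k from Subtype.ext hk.symm]
    let g : D →* ↥(eOf p ((thompsonSubgroup p K).map f) A) :=
      (MonoidHom.ofInjective hψi).symm.toMonoidHom.comp
        ((f.comp (Subgroup.inclusion hDle)).codRestrict ψ.range hDψ)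
    have hg : ∀ d : D, ψ (g d) = f ⟨d, hDle d.2⟩ := fun d =>
      congrArg Subtype.val ((MonoidHom.ofInjective hψi).apply_symm_apply ⟨_, hDψ d⟩)
    have hgk : (Subgroup.centralizer (W : Set G)).subgroupOf D = g.ker := by
      ext d
      rw [MonoidHom.mem_ker, Subgroup.mem_subgroupOf]
      exact hDker ⟨d, hDle d.2⟩ d.2 (g d) (hg d)
    have hgs : Function.Surjective g := by
      intro e
      obtain ⟨k, hkX, hk⟩ := lift_fixed K X hXK' hX hqK (hHr (hψH ⟨e, rfl⟩)) (hψX ⟨e, rfl⟩)
      exact ⟨⟨k, k, ⟨⟨e, hk.symm⟩, hkX⟩, rfl⟩, hψi ((hg _).trans hk)⟩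
    haveI hn : ((Subgroup.centralizer (W : Set G)).subgroupOf D).Normal := hgk ▸ inferInstance
    obtain ⟨φ⟩ := eOf_nonempty_equiv c hA
    exact ⟨hn, ⟨((QuotientGroup.quotientMulEquivOfEq hgk).trans
      (QuotientGroup.quotientKerEquivOfSurjective g hgs)).trans φ⟩⟩

/-- `K` is generated by `N(J(S))`, `C(Ω₁Z(S))` and `C_K(X)`. -/
theorem generation (hX : IsElementaryAbelian q X) (hqK : ¬ q ∣ Nat.card K)
    (hXK' : X ≤ Subgroup.normalizer (K : Set G)) (hsep : IsPSolvable p K)
    (hO : pPrimeCore p K = ⊥) (S : Sylow p K) :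
    Subgroup.normalizer (thompsonSubgroupOf p (S : Subgroup K) : Set K) ⊔
      Subgroup.centralizer (omegaOne p ((S : Subgroup K) ⊓
        Subgroup.centralizer ((S : Subgroup K) : Set K)) : Set K) ⊔
      (Subgroup.centralizer (X : Set G)).subgroupOf K = ⊤ := by
  set Wc := wClosure p K with hWc
  set f := modelHom Wc with hfdef
  set M := Subgroup.normalizer (thompsonSubgroupOf p (S : Subgroup K) : Set K) ⊔
      Subgroup.centralizer (omegaOne p ((S : Subgroup K) ⊓
        Subgroup.centralizer ((S : Subgroup K) : Set K)) : Set K) ⊔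
      (Subgroup.centralizer (X : Set G)).subgroupOf K with hM
  have hCM : Subgroup.centralizer (Wc : Set K) ≤ M := by
    refine (Subgroup.centralizer_le ?_).trans (le_sup_right.trans le_sup_left)
    exact SetLike.coe_subset_coe.mpr (le_iSup (fun T : Sylow p K => omegaOne p ((T : Subgroup K) ⊓
      Subgroup.centralizer ((T : Subgroup K) : Set K))) S)
  have hSM : (S : Subgroup K) ≤ M :=
    (Subgroup.le_normalizer.trans (normalizer_le_normalizer_thompsonSubgroupOf _)).trans
      (le_sup_left.trans le_sup_left)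
  suffices hJM : thompsonSubgroup p K ≤ M by
    haveI : (thompsonSubgroup p K).Normal := inferInstance
    rw [eq_top_iff, ← sup_normalizer_thompson_eq_top S (thompsonSubgroupOf_sylow_le S)]
    exact sup_le hJM (le_sup_left.trans le_sup_left)
  obtain ⟨hWe, hWO⟩ := wClosure_props hsep hO
  have c := offCtx_map Wc hWe hsep hWO (thompsonSubgroup p K)
  have hS3 := generated_by_offenders Wc hWe (p := p)
  set H := (thompsonSubgroup p K).map f with hH
  suffices hHM : H ≤ M.map f by
    refine ((Subgroup.le_comap_map f _).trans (Subgroup.comap_mono hHM)).trans ?_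
    rw [Subgroup.comap_map_eq, modelHom_ker]
    exact sup_le le_rfl hCM
  refine le_of_trans_le c hS3 fun T hT => ?_
  -- a conjugate of `T` inside the image of `S`
  obtain ⟨W₀, hW₀⟩ := Cfsg.Agent.Transfer.exists_sylow_subgroupOf_normal S (thompsonSubgroup p K)
  let W₁ := W₀.mapSurjective (MonoidHom.subgroupMap_surjective f (thompsonSubgroup p K))
  obtain ⟨P, hP⟩ := ((isPGroup_of_isElementaryAbelian
    (isElementaryAbelian_of_card_prime hT.card)).comap_subtype (K := H)).exists_le_sylow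
  obtain ⟨h, hh⟩ := MulAction.exists_smul_eq H W₁ P
  set T' := T.map (MulAut.conj (h : Model Wc)⁻¹).toMonoidHom with hT'
  have hT't : IsTrans p (modelV Wc) H T' := c.trans_map hT (H.inv_mem h.2)
  have hT'S : T' ≤ M.map f := by
    rintro _ ⟨t, ht, rfl⟩
    have h1 : (⟨t, hT.le ht⟩ : H) ∈ (P : Subgroup H) := hP ht
    rw [← hh, Sylow.coe_subgroup_smul] at h1
    obtain ⟨w, hw, hwt⟩ := h1
    rw [Sylow.coe_mapSurjective] at hw
    obtain ⟨j, hj, rfl⟩ := hw
    rw [hW₀] at hj
    refine ⟨(j : K), hSM hj, ?_⟩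
    have h2 : (h : Model Wc) * f (j : K) * (h : Model Wc)⁻¹ = t := congrArg Subtype.val hwt
    show f (j : K) = (h : Model Wc)⁻¹ * t * ((h : Model Wc)⁻¹)⁻¹
    rw [← h2]; group
  have hET : eOf p H T' = eOf p H T := by
    rw [hT', ← eOf_map_conj T (Subgroup.le_normalizer (H.inv_mem h.2)),
      map_conj_eq_of_mem_normalizer (le_normalizer_eOf c hS3 hT (H.inv_mem h.2))]
  refine (le_sup_right.trans hET.ge).trans ?_
  -- an element of `[Q, T']` moving `T'`
  obtain ⟨x, hx, hxn⟩ : ∃ x ∈ ⁅qOf p H, T'⁆, x ∉ Subgroup.centralizer (T' : Set (Model Wc)) := by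
    by_contra hcon
    push Not at hcon
    obtain ⟨B, hB, o, he⟩ := eOf_spec c hT't
    have hTe := isElementaryAbelian_of_card_prime hT't.card
    have hcent : eOf p H T' ≤ Subgroup.centralizer (T' : Set (Model Wc)) :=
      sup_le hcon (le_centralizer_self hTe.1)
    have hBC : B ≤ Subgroup.normalizer (T' : Set (Model Wc)) :=
      ((inQA_map_le_eOf c hB).trans hcent).trans (Subgroup.centralizer_le_normalizer _)
    have hpg : IsPGroup p (T' ⊔ B : Subgroup (Model Wc)) :=
      (isPGroup_of_isElementaryAbelian hTe).to_sup_of_normal_left'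
        (isPGroup_of_isElementaryAbelian (isElementaryAbelian_of_card_prime o.hB.card)) hBC
    have h1 := eq_of_isPGroup_le_q_sup c hT't hpg le_sup_left
      (sup_le le_sup_right (hB.le_sup c hT't))
    refine o.mA ?_
    have hBT : B = T' := Subgroup.eq_of_le_of_card_ge (h1 ▸ le_sup_right)
      (by rw [o.hB.card, hT't.card])
    rw [hBT]
    exact (centre_spec c hT't).2
  have hxQ : x ∈ qOf p H := commutator_q_le c hT't hx
  rw [eOf_eq_pair c hT't (inQA_self c) ⟨x, hxQ, rfl⟩ (conj_ne_of_moved c hT't hxQ hxn)]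
  refine sup_le hT'S ?_
  obtain ⟨hXq, hXV, hXH⟩ := outer_data (p := p) K X hXK' hX
  have hHr : H ≤ f.range := Subgroup.map_le_range _ _
  obtain ⟨ψ, ω, hψH, -, -, -, hψX, -, hψd, -⟩ :=
    exists_diagonal c (five_le K hqK c hHr hT't) (outerHom (p := p) K X hXK').range hXq hXV hXH hT't
  obtain ⟨d, hd, hde⟩ := hψd ⟨x, Subgroup.mem_sup_left hx⟩
  obtain ⟨k, hkX, hk⟩ := lift_fixed K X hXK' hX hqK (hHr (hψH ⟨_, rfl⟩))
    (hψX ⟨⟨x, Subgroup.mem_sup_left hx⟩, rfl⟩)
  have hy : x * d ∈ M.map f :=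
    ⟨k, Subgroup.mem_sup_right (show (k : G) ∈ Subgroup.centralizer (X : Set G) from hkX), by
      rw [hk, hde]⟩
  rintro _ ⟨t, ht, rfl⟩
  have hdt := Subgroup.mem_centralizer_iff.mp hd t (Subgroup.mem_sup_right ht)
  have : x * t * x⁻¹ = (x * d) * t * (x * d)⁻¹ := by
    calc x * t * x⁻¹ = x * (t * d) * d⁻¹ * x⁻¹ := by group
      _ = x * (d * t) * d⁻¹ * x⁻¹ := by rw [hdt]
      _ = _ := by group
  show x * t * x⁻¹ ∈ _
  rw [this]
  exact mul_mem (mul_mem hy (hT'S ht)) (inv_mem hy)

end Outer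

end Cfsg.Agent.Thompson.Off
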